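import Cfsg.Agent.SmallSimple.TheoremCCor
import Cfsg.Agent.SmallSimple.Burnside
import Cfsg.Agent.SmallSimple.FlatBlock
import Cfsg.Agent.H849.OZ.Bad_m3
import Cfsg.Agent.S0191
import Cfsg.Agent.H418.Frob
import Cfsg.Agent.H417.Divs
import Cfsg.Agent.H1.J2Cover
import Cfsg.Agent.S0961
import Cfsg.Agent.CharactersDeep.PElem
import Cfsg.Agent.FastGrp
import Cfsg.Agent.Prune
set_option linter.all false

section
prune_inst 0x7fdcfff8eba8b5dedfff7e3fffd1dffa31c4cfffe6dffb43bfe1ab9fef9f232339cd2ba51de058ff8f5662b410b87843fb7eefffe86fdc7ffffdffb41ffbee4ff5f7b50951d4883406282ffe03f15f4a6f3ffff7ffffffffffffffffffffffffffffebfeffff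

-- part: H672/OZ/Full
section
prune_inst 0x700010a2020000000000800000000000000000008400c40000040004400204008001480004000800a0000000000000000020000000000004000000000020800002002140019964001900020a410000008000000000000000000000000000014010000
set_option linter.all false
open scoped Cfsg.Agent.FastGrp

-- part: H849/OZ/TFive
section
/-!
# S4842: primes dividing the group order exactly once

`P` a Sylow subgroup of order `p`, `C(P) = P × K`, `χ` an irreducible character with exactly one class of zeros (the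
class of `x`), `c = |C(x)|`, `x` `p`-regular.

* `mass` : `c * (m * M - (p - 1)) ≤ w * p`;
* `five` : the values of `χ` at the `p`-singular elements.
-/

set_option autoImplicit false
set_option linter.unusedSectionVars false

namespace Cfsg.Agent.H849.OZ

open Cfsg Subgroup Finset
open Cfsg.Agent.Characters.Core Cfsg.Agent.Characters.Linear
open Cfsg.Agent.SmallSimple.ThetaSetup Cfsg.Agent.SmallSimple.ThetaOrtho Cfsg.Agent.SmallSimple.ThetaCount
open Cfsg.Agent.SmallSimple.TheoremC Cfsg.Agent.SmallSimple.TheoremCCor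
open Cfsg.Agent.H732.VZ (One)
open scoped ComplexConjugate

universe u

section count

variable {G : Type u} [Group G] [Finite G] {p : ℕ} [Fact p.Prime] {P : Sylow p G} {K : Subgroup G}

/-- A `p`-singular element is conjugate to some `u y`, `u ∈ P#`, `y ∈ K`. -/
theorem exists_conj (hK : IsComp p (P : Subgroup G) K) (hP : Nat.card P = p) {g : G} (hg : p ∣ orderOf g) :
    ∃ c : G, ∃ u ∈ (P : Subgroup G), u ≠ 1 ∧ ∃ y ∈ K, u * y = c * g * c⁻¹ := by
  obtain ⟨z, hz⟩ := Blocks.Orthogonality.exists_isPPart (Fact.out : p.Prime) g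
  obtain ⟨y, hzy, hcomm, ⟨k, hk⟩, hy⟩ := hz
  have hz1 : z ≠ 1 := by
    rintro rfl
    rw [one_mul] at hzy
    rw [hzy] at hy
    exact hy hg
  have hzP : IsPGroup p (zpowers z) := IsPGroup.of_card (n := k) (by rw [Nat.card_zpowers, hk])
  obtain ⟨Q, hQ⟩ := hzP.exists_le_sylow
  obtain ⟨c, hc⟩ := MulAction.exists_smul_eq G Q P
  have hu : c * z * c⁻¹ ∈ (P : Subgroup G) := by
    rw [← hc, Sylow.coe_subgroup_smul]
    refine ⟨z, hQ (mem_zpowers z), ?_⟩
    simp [MulAut.conj_apply]
  have hu1 : c * z * c⁻¹ ≠ 1 := by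
    intro h
    apply hz1
    have : z = c⁻¹ * (c * z * c⁻¹) * c := by group
    rw [this, h]; group
  have hyK : c * y * c⁻¹ ∈ K := by
    rw [hK, ← Blocks.CyclicOrtho.centralizer_eq P hP hu hu1, mem_centralizer_singleton_iff]
    refine ⟨?_, ?_⟩
    · have h1 : y * z = z * y := hcomm.eq.symm
      calc c * y * c⁻¹ * (c * z * c⁻¹) = c * (y * z) * c⁻¹ := by group
        _ = c * (z * y) * c⁻¹ := by rw [h1]
        _ = _ := by group
    · have h2 : orderOf (c * y * c⁻¹) = orderOf y := by
        have := orderOf_injective (MulAut.conj c).toMonoidHom (MulAut.conj c).injective y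
        simpa using this
      rw [h2]
      exact hy
  exact ⟨c, _, hu, hu1, _, hyK, by rw [← hzy]; group⟩

variable [Fintype G] [DecidableEq G]

open scoped Classical in
/-- The `p`-singular elements. -/
noncomputable def Sg (p : ℕ) (G : Type u) [Group G] [Fintype G] : Finset G := univ.filter fun g => p ∣ orderOf g

open scoped Classical in
/-- The elements `u y`, `u ∈ P#`, `y ∈ K`. -/
noncomputable def Dg (P : Sylow p G) (K : Subgroup G) : Finset G :=
  univ.filter fun g => ∃ u ∈ (P : Subgroup G), u ≠ 1 ∧ ∃ y ∈ K, u * y = g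

theorem mem_Sg {g : G} : g ∈ Sg p G ↔ p ∣ orderOf g := by simp [Sg]

theorem mem_Dg {g : G} : g ∈ Dg P K ↔ ∃ u ∈ (P : Subgroup G), u ≠ 1 ∧ ∃ y ∈ K, u * y = g := by simp only [Dg, _root_.ne_eq, _root_.Finset.mem_filter, _root_.Finset.mem_univ, _root_.true_and]

theorem Dg_conj (hK : IsComp p (P : Subgroup G) K) (hP : Nat.card P = p) {s : G} (hs : s ∈ Dg P K) (h : G) :
    h * s * h⁻¹ ∈ Dg P K ↔ h ∈ normalizer ((P : Subgroup G) : Set G) := by
  rw [mem_Dg] at hs
  obtain ⟨u, hu, hu1, y, hy, rfl⟩ := hs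
  rw [mem_Dg]
  constructor
  · rintro ⟨v, hv, hv1, y', hy', h1⟩
    exact mem_normalizer_of_conj hP hu hv hv1
      ((conj_mul_eq_iff hK hP hu hu1 hv hv1 ⟨y, hy⟩ ⟨y', hy'⟩ h).1 h1.symm).1
  · intro hh
    refine ⟨h * u * h⁻¹, (mem_normalizer_iff.1 hh u).1 hu, fun h1 => hu1 ?_, h * y * h⁻¹, conj_mem hK hh hy, by group⟩
    exact conj_eq_one_iff.1 h1

theorem Dg_sub (hK : IsComp p (P : Subgroup G) K) (hP : Nat.card P = p) {s : G} (hs : s ∈ Dg P K) : s ∈ Sg p G := by
  rw [mem_Dg] at hs
  rw [mem_Sg]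
  obtain ⟨u, hu, hu1, y, hy, rfl⟩ := hs
  have h1 : orderOf u = p := Blocks.CyclicOrtho.orderOf_eq P hP hu hu1
  have h2 := ((hK y).1 hy).2
  have hc : Commute u y := hK.comm hu hy
  rw [Commute.orderOf_mul_eq_mul_orderOf_of_coprime hc
    (by rw [h1]; exact ((Fact.out : p.Prime).coprime_iff_not_dvd).2 h2), h1]
  exact dvd_mul_right _ _

/-- **The sum of a class function over the `p`-singular elements.** -/
theorem sum_sing (hK : IsComp p (P : Subgroup G) K) (hP : Nat.card P = p) (F : G → ℝ)
    (hF : ∀ g t : G, F (g * t * g⁻¹) = F t) :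
    (Nat.card (normalizer ((P : Subgroup G) : Set G)) : ℝ) * ∑ t ∈ Sg p G, F t = Nat.card G * ∑ s ∈ Dg P K, F s := by
  classical
  have hord : ∀ g t : G, orderOf (g * t * g⁻¹) = orderOf t := fun g t => by
    rw [← MulAut.conj_apply, MulEquiv.orderOf_eq]
  have h1 : ∀ g : G, ∑ s ∈ Dg P K, F s = ∑ t ∈ Sg p G, if g⁻¹ * t * g ∈ Dg P K then F t else 0 := by
    intro g
    rw [← Finset.sum_filter]
    refine Finset.sum_nbij' (fun s => g * s * g⁻¹) (fun t => g⁻¹ * t * g) ?_ ?_ ?_ ?_ ?_
    · intro s hs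
      rw [mem_filter, mem_Sg, hord]
      refine ⟨mem_Sg.1 (Dg_sub hK hP hs), ?_⟩
      have h2 : g⁻¹ * (g * s * g⁻¹) * g = s := by group
      rwa [h2]
    · intro t ht
      exact (mem_filter.1 ht).2
    · intro s _
      group
    · intro t _
      group
    · intro s _
      rw [hF]
  have h2 : (Nat.card G : ℝ) * ∑ s ∈ Dg P K, F s
      = ∑ t ∈ Sg p G, F t * (univ.filter fun g : G => g⁻¹ * t * g ∈ Dg P K).card := by
    have h3 : ∑ _g : G, ∑ s ∈ Dg P K, F s = (Nat.card G : ℝ) * ∑ s ∈ Dg P K, F s := by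
      rw [Finset.sum_const, nsmul_eq_mul, Finset.card_univ, Nat.card_eq_fintype_card]
    rw [← h3, Finset.sum_congr rfl fun g _ => h1 g, Finset.sum_comm]
    refine Finset.sum_congr rfl fun t _ => ?_
    rw [← Finset.sum_filter, Finset.sum_const, nsmul_eq_mul, mul_comm]
  have h3 : ∀ t ∈ Sg p G, (univ.filter fun g : G => g⁻¹ * t * g ∈ Dg P K).card
      = Nat.card (normalizer ((P : Subgroup G) : Set G)) := by
    intro t ht
    obtain ⟨c, u, hu, hu1, y, hy, h4⟩ := exists_conj hK hP (mem_Sg.1 ht)
    have h5 : c * t * c⁻¹ ∈ Dg P K := mem_Dg.2 ⟨u, hu, hu1, y, hy, h4⟩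
    rw [Nat.card_eq_fintype_card, ← Finset.card_univ,
      ← Finset.card_map ⟨fun n : normalizer ((P : Subgroup G) : Set G) => c⁻¹ * (n : G), fun a b h =>
        Subtype.ext (mul_left_cancel h)⟩]
    congr 1
    ext g
    rw [mem_filter, mem_map]
    constructor
    · rintro ⟨-, hg⟩
      have h6 : (g⁻¹ * c⁻¹) * (c * t * c⁻¹) * (g⁻¹ * c⁻¹)⁻¹ ∈ Dg P K := by
        have h7 : (g⁻¹ * c⁻¹) * (c * t * c⁻¹) * (g⁻¹ * c⁻¹)⁻¹ = g⁻¹ * t * g := by group
        rwa [h7]
      have h7 : (g⁻¹ * c⁻¹)⁻¹ ∈ normalizer ((P : Subgroup G) : Set G) := inv_mem ((Dg_conj hK hP h5 _).1 h6)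
      refine ⟨⟨_, h7⟩, mem_univ _, ?_⟩
      change c⁻¹ * (g⁻¹ * c⁻¹)⁻¹ = g
      group
    · rintro ⟨n, -, rfl⟩
      refine ⟨mem_univ _, ?_⟩
      have h6 := (Dg_conj hK hP h5 ((n : G)⁻¹)).2 (inv_mem n.2)
      have h7 : (n : G)⁻¹ * (c * t * c⁻¹) * (n : G)⁻¹⁻¹ = (c⁻¹ * (n : G))⁻¹ * t * (c⁻¹ * (n : G)) := by group
      rw [h7] at h6
      exact h6
  rw [h2, Finset.mul_sum]
  refine Finset.sum_congr rfl fun t ht => ?_
  rw [h3 t ht, mul_comm]

theorem sum_Dg (hK : IsComp p (P : Subgroup G) K) (hP : Nat.card P = p) [Fintype P] [Fintype K] [DecidableEq P]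
    (F : G → ℝ) : ∑ s ∈ Dg P K, F s = ∑ u ∈ univ.erase (1 : P), ∑ y : K, F ((u : G) * y) := by
  classical
  rw [← Finset.sum_product']
  symm
  refine Finset.sum_bij (fun (z : P × K) _ => (z.1 : G) * z.2) ?_ ?_ ?_ ?_
  · intro a hz
    obtain ⟨u, y⟩ := a
    rw [mem_product, mem_erase] at hz
    exact mem_Dg.2 ⟨u, u.2, fun h => hz.1.1 (Subtype.ext h), y, y.2, rfl⟩
  · intro a hz b hz' h
    obtain ⟨u, y⟩ := a
    obtain ⟨v, y'⟩ := b
    rw [mem_product, mem_erase] at hz hz'
    have h1 : (1 : G) * ((u : G) * y) * 1⁻¹ = v * y' := by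
      rw [one_mul, inv_one, mul_one]
      exact h
    obtain ⟨h2, h3⟩ := (conj_mul_eq_iff hK hP u.2 (fun h => hz.1.1 (Subtype.ext h)) v.2
      (fun h => hz'.1.1 (Subtype.ext h)) y y' 1).1 h1
    rw [one_mul, inv_one, mul_one] at h2 h3
    exact Prod.ext (Subtype.ext h2) (Subtype.ext h3)
  · intro s hs
    obtain ⟨u, hu, hu1, y, hy, rfl⟩ := mem_Dg.1 hs
    exact ⟨(⟨u, hu⟩, ⟨y, hy⟩), mem_product.2 ⟨mem_erase.2 ⟨fun h => hu1 (congrArg Subtype.val h), mem_univ _⟩,
      mem_univ _⟩, rfl⟩
  · intro _ _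
    rfl

end count

/-! ### Parseval -/

section pars

variable {A : Type u} [Group A] [Fintype A]

theorem parseval (T : Finset (IrrCharacter A)) (a : IrrCharacter A → ℂ) :
    ∑ y : A, Complex.normSq (∑ θ ∈ T, a θ * (θ : A → ℂ) y) = Nat.card A * ∑ θ ∈ T, Complex.normSq (a θ) := by
  classical
  have hA : (Nat.card A : ℂ) ≠ 0 := by exact_mod_cast Nat.card_pos.ne'
  have horth : ∀ θ ∈ T, ∀ θ' ∈ T, ∑ y : A, (θ : A → ℂ) y * conj ((θ' : A → ℂ) y)
      = if θ = θ' then (Nat.card A : ℂ) else 0 := by
    intro θ _ θ' _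
    have h := classInner_irr θ.2 θ'.2
    rw [classInner_def] at h
    rw [inv_mul_eq_iff_eq_mul₀ hA] at h
    rw [h]
    by_cases h1 : θ = θ'
    · rw [if_pos h1, if_pos (congrArg Subtype.val h1), mul_one]
    · rw [if_neg h1, if_neg fun h2 => h1 (Subtype.ext h2), mul_zero]
  have key : ((∑ y : A, Complex.normSq (∑ θ ∈ T, a θ * (θ : A → ℂ) y) : ℝ) : ℂ)
      = ((Nat.card A * ∑ θ ∈ T, Complex.normSq (a θ) : ℝ) : ℂ) := by
    push_cast
    calc ∑ y : A, (Complex.normSq (∑ θ ∈ T, a θ * (θ : A → ℂ) y) : ℂ)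
        = ∑ y : A, ∑ θ ∈ T, ∑ θ' ∈ T, a θ * conj (a θ') * ((θ : A → ℂ) y * conj ((θ' : A → ℂ) y)) := by
          refine Finset.sum_congr rfl fun y _ => ?_
          rw [← Complex.mul_conj, map_sum, Finset.sum_mul_sum]
          refine Finset.sum_congr rfl fun θ _ => Finset.sum_congr rfl fun θ' _ => ?_
          rw [map_mul]
          ring
      _ = ∑ θ ∈ T, ∑ θ' ∈ T, a θ * conj (a θ') * ∑ y : A, ((θ : A → ℂ) y * conj ((θ' : A → ℂ) y)) := by
          rw [Finset.sum_comm]
          refine Finset.sum_congr rfl fun θ _ => ?_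
          rw [Finset.sum_comm]
          refine Finset.sum_congr rfl fun θ' _ => ?_
          rw [Finset.mul_sum]
      _ = ∑ θ ∈ T, a θ * conj (a θ) * Nat.card A := by
          refine Finset.sum_congr rfl fun θ hθ => ?_
          rw [Finset.sum_eq_single θ]
          · rw [horth θ hθ θ hθ, if_pos rfl]
          · intro θ' hθ' hne
            rw [horth θ hθ θ' hθ', if_neg (Ne.symm hne), mul_zero]
          · intro h
            exact absurd hθ h
      _ = _ := by
          rw [Finset.mul_sum]
          refine Finset.sum_congr rfl fun θ _ => ?_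
          rw [← Complex.mul_conj]
          ring
  exact_mod_cast key

end pars

/-! ### The mass -/

section mass

variable {G : Type u} [Group G] [Finite G] {p : ℕ} [Fact p.Prime] {P : Sylow p G} {K : Subgroup G}

/-- The sum over `P#` of the squares of `part θ χ` is the same for conjugate `θ`. -/
theorem sum_part_orb (hK : IsComp p (P : Subgroup G) K) [Fintype P] [DecidableEq P] {θ : K → ℂ} {χ : IrrCharacter G}
    {θ' : IrrCharacter K} (hθ' : θ' ∈ orb P K θ) :
    ∑ u ∈ univ.erase (1 : P), Complex.normSq (part (θ' : K → ℂ) (χ : G → ℂ) u)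
      = ∑ u ∈ univ.erase (1 : P), Complex.normSq (part θ (χ : G → ℂ) u) := by
  obtain ⟨n, hn, h⟩ := mem_orb.1 hθ'
  refine Finset.sum_bij (fun u _ => cP hn u) ?_ ?_ ?_ ?_
  · intro u hu
    rw [mem_erase] at hu ⊢
    exact ⟨fun h1 => hu.1 ((MulEquiv.map_eq_one_iff (cP hn)).1 h1), mem_univ _⟩
  · intro u _ v _ h1
    exact (cP hn).injective h1
  · intro v hv
    rw [mem_erase] at hv
    refine ⟨(cP hn).symm v, mem_erase.2 ⟨fun h1 => hv.1 ?_, mem_univ _⟩, (cP hn).apply_symm_apply v⟩
    rw [← (cP hn).apply_symm_apply v, h1, map_one]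
  · intro u _
    rw [← h, ← part_conj hK θ (isIrr_isClassFunction χ.2) hn, ← coe_cP hn]

theorem card_centralizer (hK : IsComp p (P : Subgroup G) K) (hP : Nat.card P = p) :
    Nat.card (centralizer ((P : Subgroup G) : Set G)) = p * Nat.card K := by
  have h := Nat.card_congr (_root_.Cfsg.Agent.SmallSimple.ThetaSetup.prodEquiv hK hP).toEquiv
  rw [Nat.card_prod, hP] at h
  exact h.symm

theorem card_normalizer (hK : IsComp p (P : Subgroup G) K) (hP : Nat.card P = p) {w : ℕ}
    (hw : (centralizer ((P : Subgroup G) : Set G)).relIndex (normalizer ((P : Subgroup G) : Set G)) = w) :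
    Nat.card (normalizer ((P : Subgroup G) : Set G)) = w * (p * Nat.card K) := by
  rw [← card_centralizer hK hP, ← hw, mul_comm]
  have h1 : centralizer ((P : Subgroup G) : Set G) ≤ normalizer ((P : Subgroup G) : Set G) :=
    centralizer_le_normalizer _
  rw [Subgroup.relIndex, ← Nat.card_congr (subgroupOfEquivOfLe h1).toEquiv]
  exact (Subgroup.card_mul_index _).symm

/-- **The mass inequality.** -/
theorem mass (hK : IsComp p (P : Subgroup G) K) (hP : Nat.card P = p) {χ : IrrCharacter G} {x : G} (h : _root_.Cfsg.Agent.H732.VZ.One χ x)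
    (hx : ¬ p ∣ orderOf x) {w : ℕ}
    (hw : (centralizer ((P : Subgroup G) : Set G)).relIndex (normalizer ((P : Subgroup G) : Set G)) = w)
    {θ : K → ℂ} (hθ : IsIrrCharacter K θ) (hχ : χ ∈ Over P θ) [Fintype P] [DecidableEq P] {M : ℝ}
    (hM : ∑ u ∈ univ.erase (1 : P), Complex.normSq (part θ (χ : G → ℂ) u) = M) :
    (Nat.card (centralizer ({x} : Set G)) : ℝ) * ((orb P K θ).card * M - (p - 1)) ≤ w * p := by
  classical
  have := Fintype.ofFinite G
  have := Fintype.ofFinite K
  have hpp : p.Prime := Fact.out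
  have hcf := isIrr_isClassFunction χ.2
  set N := Nat.card (normalizer ((P : Subgroup G) : Set G)) with hN
  set k := Nat.card K with hk
  have hNw : N = w * (p * k) := card_normalizer hK hP hw
  have hk0 : 0 < k := Nat.card_pos
  have hG0 : 0 < Nat.card G := Nat.card_pos
  -- the sum of the squares
  have h1 := sum_sing hK hP (fun g => Complex.normSq ((χ : G → ℂ) g)) (fun g t => by rw [hcf])
  have h2 : ∑ s ∈ Dg P K, Complex.normSq ((χ : G → ℂ) s) = k * ((orb P K θ).card * M) := by
    rw [sum_Dg hK hP]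
    have h3 : ∀ u ∈ univ.erase (1 : P), ∑ y : K, Complex.normSq ((χ : G → ℂ) ((u : G) * y))
        = k * ∑ θ' ∈ orb P K θ, Complex.normSq (part (θ' : K → ℂ) (χ : G → ℂ) u) := by
      intro u hu
      rw [hk, ← parseval]
      refine Finset.sum_congr rfl fun y _ => ?_
      rw [apply_mul_orb hK hP hθ hχ (mem_erase.1 hu).1]
    rw [Finset.sum_congr rfl h3, ← Finset.mul_sum, Finset.sum_comm,
      Finset.sum_congr rfl fun θ' hθ' => (sum_part_orb hK hθ').trans hM, Finset.sum_const, nsmul_eq_mul]
  -- the number of the elements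
  have h3 := sum_sing hK hP (fun _ => (1 : ℝ)) (fun _ _ => rfl)
  have h4 : ∑ s ∈ Dg P K, (1 : ℝ) = k * (p - 1) := by
    rw [sum_Dg hK hP]
    simp only [Finset.sum_const, nsmul_eq_mul, mul_one]
    have e1 : Fintype.card (P : Subgroup G) = p := by rw [← Nat.card_eq_fintype_card]; exact hP
    have e2 : Fintype.card K = k := by rw [← Nat.card_eq_fintype_card]
    have e3 : (univ.erase (1 : P)).card = p - 1 := by
      rw [Finset.card_erase_of_mem (mem_univ _), Finset.card_univ]
      exact congrArg (· - 1) e1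
    rw [e3, Finset.card_univ, e2, Nat.cast_sub hpp.one_le, Nat.cast_one]
    ring
  rw [h2] at h1
  rw [h4] at h3
  have h5 : ∑ t ∈ Sg p G, (1 : ℝ) = (Sg p G).card := by simp
  rw [h5] at h3
  -- the zeros
  have hgal : H695.OneZero.Gal (Sg p G) := by
    intro g hg m hm
    rw [mem_Sg] at hg ⊢
    have h6 : m.Coprime (orderOf g) := Nat.Coprime.coprime_dvd_right (_root_.orderOf_dvd_natCard g) hm
    rwa [Nat.Coprime.orderOf_pow h6.symm]
  have hnz : ∀ g ∈ Sg p G, (χ : G → ℂ) g ≠ 0 := by
    intro g hg h6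
    obtain ⟨a, ha⟩ := isConj_iff.1 (h.uniq g h6)
    rw [mem_Sg, ← ha, ← MulAut.conj_apply, MulEquiv.orderOf_eq] at hg
    exact hx hg
  have h6 := H695.OneZero.sum_le χ hgal hnz
  have h7 := Cfsg.Agent.H732.VZ.card_zeros h
  set z := (univ.filter fun g : G => (χ : G → ℂ) g = 0).card with hz
  set c := Nat.card (centralizer ({x} : Set G)) with hc
  have h7' : (z : ℝ) * c = Nat.card G := by exact_mod_cast h7
  have hc0 : (0 : ℝ) < c := by
    have : 0 < c := Nat.card_pos
    exact_mod_cast this
  have hGR : (0 : ℝ) < Nat.card G := by exact_mod_cast hG0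
  have hkR : (0 : ℝ) < k := by exact_mod_cast hk0
  have hNR : (N : ℝ) = w * (p * k) := by exact_mod_cast hNw
  set T := ∑ t ∈ Sg p G, Complex.normSq ((χ : G → ℂ) t) with hT
  set s := (Sg p G).card with hs
  -- N T = |G| k m M, N s = |G| k (p - 1), T ≤ s + z, z c = |G|, N = w p k
  have h8 : (Nat.card G : ℝ) * (k * ((orb P K θ).card * M)) ≤ Nat.card G * (k * (p - 1)) + N * z := by
    rw [← h1, ← h3, ← mul_add]
    exact mul_le_mul_of_nonneg_left h6 (by (clear * -; positivity))
  have h9 : (c : ℝ) * ((Nat.card G : ℝ) * (k * ((orb P K θ).card * M)))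
      ≤ c * (Nat.card G * (k * (p - 1))) + (w * (p * k)) * Nat.card G := by
    have := mul_le_mul_of_nonneg_left h8 hc0.le
    rw [hNR, mul_add] at this
    have e : (c : ℝ) * (w * (p * k) * z) = (w * (p * k)) * Nat.card G := by rw [← h7']; ring
    rwa [e] at this
  have h10 : (Nat.card G : ℝ) * k * (c * ((orb P K θ).card * M - (p - 1))) ≤ (Nat.card G : ℝ) * k * (w * p) := by
    linarith only [h9]
  exact le_of_mul_le_mul_left h10 (by (clear * - hk0 hG0; positivity))

theorem sum_S [Fintype P] [DecidableEq P] (hP : Nat.card P = p) (S : Finset (P →* ℂˣ)) :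
    ∑ u ∈ univ.erase (1 : P), Complex.normSq (∑ l ∈ S, ((l u : ℂˣ) : ℂ)) = p * S.card - (S.card : ℝ) ^ 2 := by
  classical
  have h1 : ∑ u : P, Complex.normSq (∑ l ∈ S, ((l u : ℂˣ) : ℂ)) = p * S.card := by
    have key : ((∑ u : P, Complex.normSq (∑ l ∈ S, ((l u : ℂˣ) : ℂ)) : ℝ) : ℂ) = ((p * S.card : ℝ) : ℂ) := by
      push_cast
      calc ∑ u : P, (Complex.normSq (∑ l ∈ S, ((l u : ℂˣ) : ℂ)) : ℂ)
          = ∑ u : P, ∑ l ∈ S, ∑ l' ∈ S, ((l u : ℂˣ) : ℂ) * conj ((l' u : ℂˣ) : ℂ) := by
            refine Finset.sum_congr rfl fun u _ => ?_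
            rw [← Complex.mul_conj, map_sum, Finset.sum_mul_sum]
        _ = ∑ l ∈ S, ∑ l' ∈ S, ∑ u : P, ((l u : ℂˣ) : ℂ) * conj ((l' u : ℂˣ) : ℂ) := by
            rw [Finset.sum_comm]
            refine Finset.sum_congr rfl fun l _ => ?_
            rw [Finset.sum_comm]
        _ = ∑ l ∈ S, (p : ℂ) := by
            refine Finset.sum_congr rfl fun l hl => ?_
            rw [Finset.sum_congr rfl fun l' _ => SmallSimple.PrimeDual.sum_hom_mul_conj l l',
              Finset.sum_ite_eq S l, if_pos hl, hP]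
        _ = _ := by rw [Finset.sum_const, nsmul_eq_mul, mul_comm]
    exact_mod_cast key
  have h4 := (Finset.add_sum_erase (univ : Finset (P : Subgroup G))
    (fun u => Complex.normSq (∑ l ∈ S, ((l u : ℂˣ) : ℂ))) (mem_univ 1)).trans h1
  have h2 : Complex.normSq (∑ l ∈ S, ((l (1 : P) : ℂˣ) : ℂ)) = (S.card : ℝ) ^ 2 := by
    have h3 : ∑ l ∈ S, ((l (1 : P) : ℂˣ) : ℂ) = ((S.card : ℝ) : ℂ) := by simp
    rw [h3, Complex.normSq_ofReal, pow_two]
  have h5 : (S.card : ℝ) ^ 2 + ∑ u ∈ univ.erase (1 : P), Complex.normSq (∑ l ∈ S, ((l u : ℂˣ) : ℂ)) = p * S.card := by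
    rw [← h2]
    exact h4
  linarith only [h5]

end mass


/-! ### The values -/

section five

variable {G : Type u} [Group G] [Finite G] {p : ℕ} [Fact p.Prime] {P : Sylow p G} {K : Subgroup G}

/-- **The values at the `p`-singular elements.** -/
theorem five (hK : IsComp p (P : Subgroup G) K) (hP : Nat.card P = p) {χ : IrrCharacter G} {x : G} (h : _root_.Cfsg.Agent.H732.VZ.One χ x)
    (hx : ¬ p ∣ orderOf x) {w : ℕ}
    (hw : (centralizer ((P : Subgroup G) : Set G)).relIndex (normalizer ((P : Subgroup G) : Set G)) = w)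
    (hexc : ∀ e t : ℕ, e * t = p - 1 → 2 ≤ t → e ∣ w →
      w * p + Nat.card (centralizer ({x} : Set G)) * (p - 1) < Nat.card (centralizer ({x} : Set G)) * (w * (p - e))) :
    ∃ (θ : IrrCharacter K) (ε : ℤ), (ε = 1 ∨ ε = -1) ∧
      (∀ u ∈ (P : Subgroup G), u ≠ 1 → ∀ y : K, (χ : G → ℂ) (u * y) = ε * ∑ θ' ∈ orb P K θ, (θ' : K → ℂ) y) ∧
      (∃ k : ℤ, (χ : G → ℂ) 1 = ε * ∑ θ' ∈ orb P K θ, (θ' : K → ℂ) 1 + p * k) ∧
      Nat.card (centralizer ({x} : Set G)) * (((orb P K θ).card - 1) * (p - 1)) ≤ w * p := by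
  classical
  have := Fintype.ofFinite P
  have hpp : p.Prime := Fact.out
  set c := Nat.card (centralizer ({x} : Set G)) with hc
  -- `χ` is over some `θ`
  obtain ⟨u₀, hu₀, hu₀1⟩ := exists_ne_one hP
  have hne0 : (χ : G → ℂ) u₀ ≠ 0 := by
    intro h6
    obtain ⟨a, ha⟩ := isConj_iff.1 (h.uniq u₀ h6)
    apply hx
    have h7 : orderOf u₀ = p := Blocks.CyclicOrtho.orderOf_eq P hP hu₀ hu₀1
    rw [← ha, ← MulAut.conj_apply, MulEquiv.orderOf_eq] at h7
    rw [h7]
  obtain ⟨θ, hθ⟩ := exists_mem_Over hK hP (χ := χ)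
    ⟨u₀, by rw [Blocks.CyclicOrtho.orderOf_eq P hP hu₀ hu₀1], hne0⟩
  -- the stabilizer
  set e := Nat.card (stabAct hK (θ : K → ℂ)) with he
  have hew : e * (orb P K (θ : K → ℂ)).card = w := (card_stabAct_mul_card_orb hK hP θ.2).trans hw
  have hed : e ∣ p - 1 := by
    have h1 : Nat.card (MulAut P) = p - 1 := by
      have : IsCyclic (P : Subgroup G) := isCyclic_of_prime_card hP
      rw [IsCyclic.card_mulAut, hP, Nat.totient_prime hpp]
    rw [← h1]
    exact card_subgroup_dvd_card _
  obtain ⟨t, ht⟩ := hed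
  obtain ⟨NE, X, ε, d, S, hOver, -, -, -, hε, hd, hNE, hX, -, -, -⟩ := theoremC hK hP θ.2 he.symm ht.symm
  have hm0 : 0 < (orb P K (θ : K → ℂ)).card := Finset.card_pos.2 ⟨θ, mem_orb.2 ⟨1, one_mem _, tw_one _⟩⟩
  -- the constant case
  have const : ∀ a : ℤ, (a = 1 ∨ a = -1) → (∀ u : P, u ≠ 1 → part (θ : K → ℂ) (χ : G → ℂ) u = a) →
      ∃ (θ : IrrCharacter K) (ε : ℤ), (ε = 1 ∨ ε = -1) ∧
      (∀ u ∈ (P : Subgroup G), u ≠ 1 → ∀ y : K, (χ : G → ℂ) (u * y) = ε * ∑ θ' ∈ orb P K θ, (θ' : K → ℂ) y) ∧
      (∃ k : ℤ, (χ : G → ℂ) 1 = ε * ∑ θ' ∈ orb P K θ, (θ' : K → ℂ) 1 + p * k) ∧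
      c * (((orb P K θ).card - 1) * (p - 1)) ≤ w * p := by
    intro a ha hpa
    refine ⟨θ, a, ha, fun u hu hu1 y => ?_, degree_of_const hK hP θ.2 hθ hpa, ?_⟩
    · exact apply_of_const hK hP θ.2 hθ hpa (x := ⟨u, hu⟩) (fun h1 => hu1 (congrArg Subtype.val h1)) y
    · have hM : ∑ u ∈ univ.erase (1 : P), Complex.normSq (part (θ : K → ℂ) (χ : G → ℂ) u) = ((p : ℝ) - 1) := by
        have h1 : ∀ u ∈ univ.erase (1 : P), Complex.normSq (part (θ : K → ℂ) (χ : G → ℂ) u) = 1 := by
          intro u hu
          rw [hpa u (mem_erase.1 hu).1]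
          rcases ha with rfl | rfl <;> simp only [_root_.Int.cast_one, _root_.map_one, _root_.Int.reduceNeg, _root_.Int.cast_neg, _root_.Complex.normSq_neg]
        rw [Finset.sum_congr rfl h1, Finset.sum_const, Finset.card_erase_of_mem (mem_univ _), Finset.card_univ,
          nsmul_eq_mul, mul_one]
        have e1 : Fintype.card (P : Subgroup G) = p := by rw [← Nat.card_eq_fintype_card]; exact hP
        have e2 : ((Fintype.card (P : Subgroup G) - 1 : ℕ) : ℝ) = (p : ℝ) - 1 := by
          rw [e1, Nat.cast_sub hpp.one_le, Nat.cast_one]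
        exact e2
      have h1 := mass hK hP h hx hw θ.2 hθ hM
      have h2 : ((c * (((orb P K (θ : K → ℂ)).card - 1) * (p - 1)) : ℕ) : ℝ) ≤ ((w * p : ℕ) : ℝ) := by
        rw [Nat.cast_mul, Nat.cast_mul, Nat.cast_mul, Nat.cast_sub hm0, Nat.cast_sub hpp.one_le, Nat.cast_one]
        calc (c : ℝ) * (((orb P K (θ : K → ℂ)).card - 1) * (p - 1))
            = c * ((orb P K (θ : K → ℂ)).card * ((p : ℝ) - 1) - (p - 1)) := by ring
          _ ≤ w * p := h1
      exact_mod_cast h2
  rcases (hOver χ).1 hθ with h1 | h1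
  · exact const (ε χ) (hε χ h1) (hNE χ h1)
  · obtain ⟨hS, hS1, -, hpart⟩ := hX χ h1
    by_cases ht1 : t = 1
    · -- one exceptional character
      rw [ht1, mul_one] at ht
      refine const (-d) (by rcases hd with rfl | rfl <;> simp) fun u hu => ?_
      rw [hpart u hu, SmallSimple.FlatBlock.sum_hom_of_card hpp hP (by rw [hS, ← ht]) hS1 hu]
      push_cast
      ring
    · exfalso
      have ht2 : 2 ≤ t := by
        rcases Nat.lt_or_ge t 2 with h2 | h2
        · exfalso
          have ht0 : t = 0 := by omega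
          rw [ht0, mul_zero] at ht
          have := hpp.two_le
          omega
        · exact h2
      have h2 := hexc e t ht.symm ht2 ⟨_, hew.symm⟩
      have hM : ∑ u ∈ univ.erase (1 : P), Complex.normSq (part (θ : K → ℂ) (χ : G → ℂ) u)
          = p * (e : ℝ) - (e : ℝ) ^ 2 := by
        rw [← hS, ← sum_S hP (S χ)]
        refine Finset.sum_congr rfl fun u hu => ?_
        rw [hpart u (mem_erase.1 hu).1, Complex.normSq_mul]
        rcases hd with rfl | rfl <;> simp only [_root_.Int.cast_one, _root_.map_one, _root_.one_mul, _root_.Int.reduceNeg, _root_.Int.cast_neg, _root_.Complex.normSq_neg]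
      have h3 := mass hK hP h hx hw θ.2 hθ hM
      have hle : e ≤ p - 1 := Nat.le_of_dvd (by have := hpp.two_le; omega) ⟨t, ht⟩
      have hle' : e ≤ p := by omega
      have h4 : ((w * p + c * (p - 1) : ℕ) : ℝ) < ((c * (w * (p - e)) : ℕ) : ℝ) := by exact_mod_cast h2
      rw [Nat.cast_add, Nat.cast_mul, Nat.cast_mul, Nat.cast_mul, Nat.cast_mul, Nat.cast_sub hpp.one_le,
        Nat.cast_sub hle', Nat.cast_one] at h4
      have h5 : (w : ℝ) = e * (orb P K (θ : K → ℂ)).card := by exact_mod_cast hew.symm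
      have h6 : (c : ℝ) * ((orb P K (θ : K → ℂ)).card * (p * (e : ℝ) - (e : ℝ) ^ 2) - (p - 1))
          = c * (w * (p - e)) - c * (p - 1) := by
        rw [h5]
        ring
      rw [h6] at h3
      linarith only [h3, h4]

end five


/-! ### Residues of the degree -/

section residue

variable {G : Type u} [Group G] [Finite G] {p : ℕ}

theorem arith {p w c e t : ℕ} (h4 : 4 ≤ c) (h7 : 7 ≤ p) (hw : 2 ≤ w) (het : e * t = p - 1) (ht : 2 ≤ t) (he : e ∣ w) :
    w * p + c * (p - 1) < c * (w * (p - e)) := by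
  obtain ⟨q, rfl⟩ : ∃ q, p = q + 1 := ⟨p - 1, by omega⟩
  rw [Nat.add_sub_cancel] at het ⊢
  have h2e : 2 * e ≤ q := by nlinarith only [ht, het]
  obtain ⟨f, hf⟩ : ∃ f, q = e + f := ⟨q - e, by omega⟩
  have h1 : q + 1 - e = f + 1 := by omega
  rw [h1]
  have he0 : 0 < e := by
    rcases Nat.eq_zero_or_pos e with h | h
    · rw [h, zero_mul] at het
      omega
    · exact h
  have hef : e ≤ f := by omega
  -- `4 (w (f + 1) - q) > w p`
  have key : w * (q + 1) + 4 * q < 4 * (w * (f + 1)) := by
    obtain ⟨m, rfl⟩ := he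
    have hm : 0 < m := by
      rcases Nat.eq_zero_or_pos m with h | h
      · rw [h] at hw
        omega
      · exact h
    rcases Nat.lt_or_ge e 2 with h | h
    · have : e = 1 := by omega
      subst this
      nlinarith only [h7, hf, hw]
    · rcases Nat.lt_or_ge (e * m) 4 with h5 | h5
      · have hm1 : m = 1 := by nlinarith only [hm, h, h5]
        subst hm1
        rw [mul_one] at h5 ⊢
        interval_cases e <;> linarith only [h7, hf]
      · nlinarith only [h2e, hf, h5]
  have h2 : q ≤ w * (f + 1) := by nlinarith only [key]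
  obtain ⟨a, ha⟩ : ∃ a, w * (f + 1) = q + a := ⟨w * (f + 1) - q, by omega⟩
  rw [ha] at key ⊢
  nlinarith only [h4, key]

theorem mod_of {d : ℕ} {k ε : ℤ} (hp : 1 < p) (hε : ε = 1 ∨ ε = -1) (h : (d : ℤ) = ε + p * k) :
    d % p = 1 ∨ d % p = p - 1 := by
  rcases hε with rfl | rfl
  · left
    have h1 : ((d : ℤ)) % p = 1 % p := by rw [h, Int.add_mul_emod_self_left]
    have h2 : (1 : ℤ) % p = 1 := Int.emod_eq_of_lt (by norm_num) (by exact_mod_cast hp)
    rw [h2] at h1
    exact_mod_cast h1
  · right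
    have h1 : ((d + 1 : ℕ) : ℤ) % p = 0 := by
      push_cast
      rw [h]
      have : (-1 + p * k + 1 : ℤ) = p * k := by ring
      rw [this]
      exact Int.mul_emod_right _ _
    have h2 : (d + 1) % p = 0 := by exact_mod_cast h1
    have h3 : d % p < p := Nat.mod_lt _ (by omega)
    have h4 : (d % p + 1) % p = 0 := by rwa [Nat.mod_add_mod]
    rcases Nat.lt_or_ge (d % p + 1) p with h5 | h5
    · rw [Nat.mod_eq_of_lt h5] at h4
      omega
    · omega

theorem normalizer_ne [IsSimpleGroup G] [Fact p.Prime] {P : Sylow p G} (hd : p ∣ Nat.card G) (hG : Nat.card G ≠ p) {w : ℕ}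
    (hw : (centralizer ((P : Subgroup G) : Set G)).relIndex (normalizer ((P : Subgroup G) : Set G)) = w) : 2 ≤ w := by
  rcases Nat.lt_or_ge w 2 with h | h
  · exfalso
    have h1 : w = 0 ∨ w = 1 := by omega
    rcases h1 with rfl | rfl
    · exact absurd hw (Subgroup.FiniteIndex.index_ne_zero)
    · rw [Subgroup.relIndex_eq_one] at hw
      exact hG (SmallSimple.Burnside.card_eq_of_normalizer_le_centralizer hd P hw)
  · exact h

variable [Fact p.Prime] {P : Sylow p G} {K : Subgroup G}

/-- A character without zeros is linear. -/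
theorem deg_one_of_no_zero {A : Type u} [Group A] [Finite A] (θ : IrrCharacter A) (h : ∀ a, (θ : A → ℂ) a ≠ 0) :
    (θ : A → ℂ) 1 = 1 := by
  obtain ⟨n, ρ, hρ, hθ⟩ := θ.2
  have h1 : ¬ 1 < Module.finrank ℂ (Fin n → ℂ) := by
    intro h1
    have := hρ
    obtain ⟨g, hg⟩ := S0191.result ρ h1
    exact h g (by rw [← hθ]; exact hg)
  have h2 : (θ : A → ℂ) 1 = (Module.finrank ℂ (Fin n → ℂ) : ℂ) := by rw [← hθ, Representation.char_one]
  have h3 : Module.finrank ℂ (Fin n → ℂ) ≠ 0 := by
    intro h3
    apply h 1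
    rw [h2, h3, Nat.cast_zero]
  have h4 : Module.finrank ℂ (Fin n → ℂ) = 1 := by omega
  rw [h2, h4, Nat.cast_one]

/-- **Residue of the degree, one `θ` in the orbit.** `w` is the index of the centralizer of `P` in the normalizer. -/
theorem mod_of_orb (hK : IsComp p (P : Subgroup G) K) (hP : Nat.card P = p) {χ : IrrCharacter G} {x : G} (h : _root_.Cfsg.Agent.H732.VZ.One χ x)
    (hx : ¬ p ∣ orderOf x) {w : ℕ}
    (hw : (centralizer ((P : Subgroup G) : Set G)).relIndex (normalizer ((P : Subgroup G) : Set G)) = w)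
    (hexc : ∀ e t : ℕ, e * t = p - 1 → 2 ≤ t → e ∣ w →
      w * p + Nat.card (centralizer ({x} : Set G)) * (p - 1) < Nat.card (centralizer ({x} : Set G)) * (w * (p - e)))
    (horb : ∀ θ : IrrCharacter K, Nat.card (centralizer ({x} : Set G)) * (((orb P K (θ : K → ℂ)).card - 1) * (p - 1))
      ≤ w * p → (orb P K (θ : K → ℂ)).card ≤ 1) :
    charDegree (χ : G → ℂ) % p = 1 ∨ charDegree (χ : G → ℂ) % p = p - 1 := by
  classical
  obtain ⟨θ, ε, hε, hval, ⟨k, hk⟩, hc⟩ := five hK hP h hx hw hexc
  have h1 : orb P K (θ : K → ℂ) = {θ} := by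
    have hmem : θ ∈ orb P K (θ : K → ℂ) := mem_orb.2 ⟨1, one_mem _, tw_one _⟩
    have h2 := horb θ hc
    refine Finset.eq_singleton_iff_unique_mem.2 ⟨hmem, fun θ' hθ' => Finset.card_le_one.1 h2 _ hθ' _ hmem⟩
  have hpp : p.Prime := Fact.out
  obtain ⟨u, hu, hu1⟩ := exists_ne_one hP
  have h3 : ∀ y : K, (θ : K → ℂ) y ≠ 0 := by
    intro y hy
    have h4 : (χ : G → ℂ) (u * y) = 0 := by
      rw [hval u hu hu1 y, h1, Finset.sum_singleton, hy, mul_zero]
    have h5 : p ∣ orderOf (u * (y : G)) := by
      classical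
      have := Fintype.ofFinite G
      exact mem_Sg.1 (Dg_sub hK hP (mem_Dg.2 ⟨u, hu, hu1, y, y.2, rfl⟩))
    obtain ⟨a, ha⟩ := isConj_iff.1 (h.uniq _ h4)
    apply hx
    rwa [← ha, ← MulAut.conj_apply, MulEquiv.orderOf_eq] at h5
  have h6 := deg_one_of_no_zero θ h3
  rw [h1, Finset.sum_singleton, h6, mul_one] at hk
  have h7 : ((charDegree (χ : G → ℂ) : ℤ)) = ε + p * k := by
    have h8 := Cfsg.Agent.H686.CharKit.charDegree_irr χ
    rw [hk] at h8
    exact_mod_cast h8
  exact mod_of hpp.one_lt hε h7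

/-- `θ` is stable if elements of `K` of the same order are conjugate in `K`. -/
theorem card_orb_of_conj (hK : IsComp p (P : Subgroup G) K)
    (hcl : ∀ y y' : K, orderOf y = orderOf y' → IsConj y y') (θ : IrrCharacter K) :
    (orb P K (θ : K → ℂ)).card ≤ 1 := by
  rw [orb_of_stable θ.2]
  · simp
  · intro n hn
    funext y
    rw [tw_apply hK _ hn]
    refine (classFunction_apply_eq (isIrr_isClassFunction θ.2) ?_).symm
    refine hcl _ _ ?_
    rw [← Subgroup.orderOf_coe, ← Subgroup.orderOf_coe]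
    change orderOf ((y : G)) = orderOf (n * (y : G) * n⁻¹)
    rw [← MulAut.conj_apply, MulEquiv.orderOf_eq]

end residue

section final

variable {G : Type u} [Group G] [Finite G] [IsSimpleGroup G] {p : ℕ}

/-- The Sylow subgroup generated by an element of order `p`. -/
theorem exists_sylow (hp : p.Prime) (hsq : ¬ p ^ 2 ∣ Nat.card G) {z : G} (hz : orderOf z = p) :
    ∃ P : Sylow p G, (P : Subgroup G) = zpowers z ∧ Nat.card P = p := by
  have hF : Fact p.Prime := ⟨hp⟩
  have hz' : Nat.card (zpowers z) = p := by rw [Nat.card_zpowers, hz]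
  have hpg : IsPGroup p (zpowers z) := IsPGroup.of_card (n := 1) (by rw [hz', pow_one])
  have hidx : ¬ p ∣ (zpowers z).index := by
    intro hd
    apply hsq
    rw [← (zpowers z).card_mul_index, hz', pow_two]
    exact mul_dvd_mul_left p hd
  exact ⟨hpg.toSylow hidx, rfl, hz'⟩

/-- A power prime to `p` of an element of order `p` is a power prime to the group order. -/
theorem exists_coprime (hp : p.Prime) {x : G} (hx : orderOf x = p) {k : ℕ} (hk : ¬ p ∣ k) :
    ∃ m : ℕ, m.Coprime (Nat.card G) ∧ x ^ m = x ^ k := by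
  have hF : Fact p.Prime := ⟨hp⟩
  have hd : p ∣ Nat.card G := hx ▸ _root_.orderOf_dvd_natCard x
  have : NeZero (Nat.card G) := ⟨Nat.card_pos.ne'⟩
  have hco : k.Coprime p := ((hp.coprime_iff_not_dvd).2 hk).symm
  obtain ⟨u, hu⟩ := ZMod.unitsMap_surjective hd (ZMod.unitOfCoprime k hco)
  refine ⟨(u : ZMod (Nat.card G)).val, ZMod.val_coe_unit_coprime u, ?_⟩
  rw [pow_eq_pow_iff_modEq, hx]
  have h1 := congrArg (fun v : (ZMod p)ˣ => (v : ZMod p)) hu
  rw [ZMod.unitsMap_def] at h1
  simp only [Units.coe_map, ZMod.coe_unitOfCoprime] at h1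
  rw [← ZMod.natCast_eq_natCast_iff, ← h1]
  change (((u : ZMod (Nat.card G)).val : ℕ) : ZMod p) = ZMod.castHom hd (ZMod p) (u : ZMod (Nat.card G))
  rw [ZMod.castHom_apply, ZMod.natCast_val]

/-- The zero at an element of an isolated prime order. -/
theorem iso_sing (hp : p.Prime) (hsq : ¬ p ^ 2 ∣ Nat.card G) {z : G} (hz : orderOf z = p)
    (hC : Nat.card (centralizer ({z} : Set G)) = p) {χ : IrrCharacter G} {x : G} (h : _root_.Cfsg.Agent.H732.VZ.One χ x) (hx : p ∣ orderOf x) :
    p ∣ charDegree (χ : G → ℂ) ∧ orderOf x = p ∧ Nat.card (centralizer ({x} : Set G)) = p ∧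
      ∀ g : G, orderOf g = p → IsConj x g := by
  classical
  have hF : Fact p.Prime := ⟨hp⟩
  obtain ⟨P, hPz, hP⟩ := exists_sylow hp hsq hz
  obtain ⟨K, hK⟩ := exists_isComp P hP
  have hzP : z ∈ (P : Subgroup G) := by rw [hPz]; exact mem_zpowers z
  have hz1 : z ≠ 1 := by
    rintro rfl
    rw [orderOf_one] at hz
    exact hp.one_lt.ne hz
  have hK1 : Nat.card K = 1 := by
    have h1 := card_centralizer hK hP
    rw [← Blocks.CyclicOrtho.centralizer_eq P hP hzP hz1, hC] at h1
    have h2 := hp.pos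
    nlinarith only [h1, h2]
  have hKb : ∀ y ∈ K, y = 1 := by
    intro y hy
    rw [card_eq_one.1 hK1] at hy
    exact mem_bot.1 hy
  have hcard : ∀ g c : G, Nat.card (centralizer ({c * g * c⁻¹} : Set G)) = Nat.card (centralizer ({g} : Set G)) := by
    intro g c
    refine Nat.card_congr ⟨fun y => ⟨c⁻¹ * y * c, ?_⟩, fun y => ⟨c * y * c⁻¹, ?_⟩, fun y => ?_, fun y => ?_⟩
    · have := mem_centralizer_singleton_iff.1 y.2
      rw [mem_centralizer_singleton_iff]
      calc c⁻¹ * (y : G) * c * g = c⁻¹ * ((y : G) * (c * g * c⁻¹)) * c := by group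
        _ = c⁻¹ * ((c * g * c⁻¹) * y) * c := by rw [this]
        _ = g * (c⁻¹ * y * c) := by group
    · have := mem_centralizer_singleton_iff.1 y.2
      rw [mem_centralizer_singleton_iff]
      calc c * (y : G) * c⁻¹ * (c * g * c⁻¹) = c * ((y : G) * g) * c⁻¹ := by group
        _ = c * (g * y) * c⁻¹ := by rw [this]
        _ = c * g * c⁻¹ * (c * y * c⁻¹) := by group
    · exact Subtype.ext (by change c * (c⁻¹ * (y : G) * c) * c⁻¹ = y; group)
    · exact Subtype.ext (by change c⁻¹ * (c * (y : G) * c⁻¹) * c = y; group)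
  obtain ⟨c, u, hu, hu1, y, hy, h1⟩ := exists_conj hK hP hx
  rw [hKb y hy, mul_one] at h1
  have hou : orderOf u = p := Blocks.CyclicOrtho.orderOf_eq P hP hu hu1
  have hox : orderOf x = p := by rw [← hou, h1, ← MulAut.conj_apply, MulEquiv.orderOf_eq]
  have hcu : Nat.card (centralizer ({u} : Set G)) = p := by
    rw [Blocks.CyclicOrtho.centralizer_eq P hP hu hu1, ← Blocks.CyclicOrtho.centralizer_eq P hP hzP hz1, hC]
  have hall : ∀ g : G, orderOf g = p → IsConj x g := by
    intro g hg
    obtain ⟨c', u', hu', hu1', y', hy', h1'⟩ := exists_conj hK hP (g := g) (by rw [hg])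
    rw [hKb y' hy', mul_one] at h1'
    -- `u'` is a power of `u`
    have h2 : zpowers u = (P : Subgroup G) := by
      refine eq_of_le_of_card_ge (by rwa [zpowers_le]) ?_
      rw [Nat.card_zpowers, hou]
      exact hP.le
    have h3 : u' ∈ zpowers u := by rw [h2]; exact hu'
    rw [← mem_powers_iff_mem_zpowers] at h3
    obtain ⟨k, hk⟩ := h3
    have hk' : u ^ k = u' := hk
    have hkp : ¬ p ∣ k := by
      intro hd
      apply hu1'
      rw [← hk', ← orderOf_dvd_iff_pow_eq_one, hou]
      exact hd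
    obtain ⟨m, hm, hmk⟩ := exists_coprime hp hou hkp
    have h4 := h.conj_pow hm
    have h5 : c * x ^ m * c⁻¹ = u' := by
      rw [← hk', ← hmk, h1]
      exact (conj_pow).symm
    exact (h4.trans (isConj_iff.2 ⟨c, h5⟩)).trans (isConj_iff.2 ⟨c', h1'.symm⟩).symm
  refine ⟨?_, hox, ?_, hall⟩
  · -- the degree
    obtain ⟨M, hM⟩ := Blocks.ExistsModular.exists_isPModular hp
    have hMp : M.IsPrime := hM.2.1.isPrime
    have h2 := Cfsg.Agent.H732.VZ.av_mul_sub_mem hp hMp hM.2.2 χ (z := x) (v := 1) hox (Commute.one_right x)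
      (by rw [orderOf_one]; exact fun h => hp.one_lt.ne' (Nat.dvd_one.1 h))
    rw [mul_one] at h2
    have h3 : Cfsg.Agent.H732.VZ.av χ x = 0 := Subtype.ext h.zero
    rw [h3, zero_sub, Ideal.neg_mem_iff] at h2
    have h4 : Cfsg.Agent.H732.VZ.av χ 1 = ((charDegree (χ : G → ℂ) : ℤ) : AlgInt) := by
      apply Subtype.ext
      rw [Cfsg.Agent.H732.VZ.av_coe, ← Cfsg.Agent.H686.CharKit.charDegree_irr χ]
      simp only [_root_.Int.cast_natCast, _root_.SubringClass.coe_natCast]
    rw [h4, Cfsg.Agent.H732.VZ.int_mem_iff hp hMp hM.2.2] at h2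
    exact_mod_cast h2
  · rw [← hcard x c, ← h1, hcu]

/-- **The degree modulo an isolated prime `p ≥ 7`** (`|C(z)| = p`). -/
theorem iso (hp : p.Prime) (h7 : 7 ≤ p) (hsq : ¬ p ^ 2 ∣ Nat.card G) (hG : Nat.card G ≠ p) {z : G} (hz : orderOf z = p)
    (hC : Nat.card (centralizer ({z} : Set G)) = p) {χ : IrrCharacter G} {x : G} (h : _root_.Cfsg.Agent.H732.VZ.One χ x)
    (h4 : 4 ≤ Nat.card (centralizer ({x} : Set G))) :
    charDegree (χ : G → ℂ) % p = 1 ∨ charDegree (χ : G → ℂ) % p = p - 1 ∨
      (p ∣ charDegree (χ : G → ℂ) ∧ orderOf x = p ∧ Nat.card (centralizer ({x} : Set G)) = p ∧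
        ∀ g : G, orderOf g = p → IsConj x g) := by
  classical
  by_cases hx : p ∣ orderOf x
  · exact Or.inr (Or.inr (iso_sing hp hsq hz hC h hx))
  · have hF : Fact p.Prime := ⟨hp⟩
    obtain ⟨P, hPz, hP⟩ := exists_sylow hp hsq hz
    obtain ⟨K, hK⟩ := exists_isComp P hP
    have hzP : z ∈ (P : Subgroup G) := by rw [hPz]; exact mem_zpowers z
    have hz1 : z ≠ 1 := by
      rintro rfl
      rw [orderOf_one] at hz
      exact hp.one_lt.ne hz
    have hK1 : Nat.card K = 1 := by
      have h1 := card_centralizer hK hP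
      rw [← Blocks.CyclicOrtho.centralizer_eq P hP hzP hz1, hC] at h1
      have h2 := hp.pos
      nlinarith only [h7, h1]
    have hsub : Subsingleton K := (Nat.card_eq_one_iff_unique.1 hK1).1
    have hd : p ∣ Nat.card G := hz ▸ _root_.orderOf_dvd_natCard z
    have hw2 := normalizer_ne hd hG (P := P) rfl
    rcases mod_of_orb hK hP h hx rfl (fun e t het ht he => arith h4 h7 hw2 het ht he) (fun θ _ =>
      card_orb_of_conj hK (fun y y' _ => by rw [Subsingleton.elim y y']) θ) with h1 | h1
    · exact Or.inl h1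
    · exact Or.inr (Or.inl h1)

/-- `x` is `p`-regular if `p ∥ |G|`, `|C(z)| > p` for `z` of order `p` and `|C(x)| ≤ p`. -/
theorem not_dvd_of_le (hp : p.Prime) (hsq : ¬ p ^ 2 ∣ Nat.card G)
    {z : G} (hz : orderOf z = p) (hC : p < Nat.card (centralizer ({z} : Set G))) {x : G}
    (hc : Nat.card (centralizer ({x} : Set G)) ≤ p) : ¬ p ∣ orderOf x := by
  classical
  intro hx
  have hF : Fact p.Prime := ⟨hp⟩
  obtain ⟨P, hPz, hP⟩ := exists_sylow hp hsq hz
  obtain ⟨K, hK⟩ := exists_isComp P hP
  have hzP : z ∈ (P : Subgroup G) := by rw [hPz]; exact mem_zpowers z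
  have hz1 : z ≠ 1 := by
    rintro rfl
    rw [orderOf_one] at hz
    exact hp.one_lt.ne hz
  obtain ⟨c, u, hu, hu1, y, hy, h1⟩ := exists_conj hK hP hx
  have hou : orderOf u = p := Blocks.CyclicOrtho.orderOf_eq P hP hu hu1
  -- `⟨u y⟩` has order at most `p`
  have hcy : Commute u y := hK.comm hu hy
  have hco : (orderOf u).Coprime (orderOf y) := by
    rw [hou]
    exact (hp.coprime_iff_not_dvd).2 ((hK y).1 hy).2
  have hox : orderOf x = p * orderOf y := by
    have h2 := Commute.orderOf_mul_eq_mul_orderOf_of_coprime hcy hco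
    rw [h1, ← MulAut.conj_apply, MulEquiv.orderOf_eq, hou] at h2
    exact h2
  have hle : orderOf x ≤ p := by
    refine le_trans ?_ hc
    rw [← Nat.card_zpowers]
    refine Nat.card_le_card_of_injective _ (Subgroup.inclusion_injective (H := zpowers x)
      (K := centralizer ({x} : Set G)) ?_)
    rw [zpowers_le, mem_centralizer_singleton_iff]
  have hy1 : y = 1 := by
    have h3 : 0 < orderOf y := orderOf_pos y
    have h4 := hp.pos
    rw [hox] at hle
    have h5 : orderOf y = 1 := by nlinarith only [hle, h3, h4]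
    exact orderOf_eq_one_iff.1 h5
  rw [hy1, mul_one] at h1
  -- `|C(x)| = |C(u)| = |C(z)|`
  have hcu : Nat.card (centralizer ({u} : Set G)) = Nat.card (centralizer ({z} : Set G)) := by
    rw [Blocks.CyclicOrtho.centralizer_eq P hP hu hu1, ← Blocks.CyclicOrtho.centralizer_eq P hP hzP hz1]
  have hcx : Nat.card (centralizer ({u} : Set G)) ≤ Nat.card (centralizer ({x} : Set G)) := by
    refine Nat.card_le_card_of_injective (fun y : centralizer ({u} : Set G) => (⟨c⁻¹ * y * c, ?_⟩ :
      centralizer ({x} : Set G))) ?_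
    · have := mem_centralizer_singleton_iff.1 y.2
      rw [mem_centralizer_singleton_iff]
      have this' : (y : G) * (c * x * c⁻¹) = (c * x * c⁻¹) * y := by
        rw [← h1]
        exact this
      calc c⁻¹ * (y : G) * c * x = c⁻¹ * ((y : G) * (c * x * c⁻¹)) * c := by group
        _ = c⁻¹ * ((c * x * c⁻¹) * y) * c := by rw [this']
        _ = x * (c⁻¹ * y * c) := by group
    · intro a b hab
      have h2 : c⁻¹ * (a : G) * c = c⁻¹ * (b : G) * c := congrArg Subtype.val hab
      exact Subtype.ext (mul_left_cancel (mul_right_cancel h2))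
  omega

/-- **The degree modulo a prime `p ≥ 7`, `p ∥ |G|`, not isolated**, `x` `p`-regular, elements of `K` of the same order
conjugate in `K` (`K` the set of the `p`-regular elements of `C(z)`; for instance `|K| = 2` or `K ≅ S₃`). -/
theorem mod_of_classes (hp : p.Prime) (h7 : 7 ≤ p) (hsq : ¬ p ^ 2 ∣ Nat.card G) (hG : Nat.card G ≠ p) {z : G}
    (hz : orderOf z = p) (hcl : ∀ y y' : G, z * y = y * z → z * y' = y' * z → ¬ p ∣ orderOf y → orderOf y = orderOf y' →
      ∃ k : G, z * k = k * z ∧ k * y * k⁻¹ = y')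
    {χ : IrrCharacter G} {x : G} (h : _root_.Cfsg.Agent.H732.VZ.One χ x) (hx : ¬ p ∣ orderOf x)
    (h4 : 4 ≤ Nat.card (centralizer ({x} : Set G))) :
    charDegree (χ : G → ℂ) % p = 1 ∨ charDegree (χ : G → ℂ) % p = p - 1 := by
  classical
  have hF : Fact p.Prime := ⟨hp⟩
  obtain ⟨P, hPz, hP⟩ := exists_sylow hp hsq hz
  obtain ⟨K, hK⟩ := exists_isComp P hP
  have hzP : z ∈ (P : Subgroup G) := by rw [hPz]; exact mem_zpowers z
  have hz1 : z ≠ 1 := by
    rintro rfl
    rw [orderOf_one] at hz
    exact hp.one_lt.ne hz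
  have hd : p ∣ Nat.card G := hz ▸ _root_.orderOf_dvd_natCard z
  have hw2 := normalizer_ne hd hG (P := P) rfl
  have hCz : ∀ y, y ∈ K → z * y = y * z := fun y hy => hK.comm hzP hy
  refine mod_of_orb hK hP h hx rfl (fun e t het ht he => arith h4 h7 hw2 het ht he) (fun θ _ =>
      card_orb_of_conj hK (fun y y' hyy => ?_) θ)
  obtain ⟨k, hk, hky⟩ := hcl y y' (hCz y y.2) (hCz y' y'.2) ((hK y).1 y.2).2 (by
    rw [Subgroup.orderOf_coe, Subgroup.orderOf_coe]
    exact hyy)
  -- the `p`-regular part of `k`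
  have hkC : k ∈ centralizer ((P : Subgroup G) : Set G) := by
    rw [← Blocks.CyclicOrtho.centralizer_eq P hP hzP hz1, mem_centralizer_singleton_iff]
    exact hk.symm
  obtain ⟨a, ha, b, hb, hab⟩ := hK.exists_mul hP hkC
  refine isConj_iff.2 ⟨⟨b, hb⟩, Subtype.ext ?_⟩
  change b * (y : G) * b⁻¹ = y'
  have h1 : a * (b * (y : G) * b⁻¹) = (b * (y : G) * b⁻¹) * a :=
    hK.comm ha (mul_mem (mul_mem hb y.2) (inv_mem hb))
  rw [← hky, ← hab]
  calc b * (y : G) * b⁻¹ = (b * (y : G) * b⁻¹ * a) * a⁻¹ := by group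
    _ = (a * (b * (y : G) * b⁻¹)) * a⁻¹ := by rw [h1]
    _ = a * b * y * (a * b)⁻¹ := by group

/-- **The degree modulo a prime `p ≥ 7`, `p ∥ |G|`, `|C(z)| = 2 p`**, `x` `p`-regular. -/
theorem mod_of_two (hp : p.Prime) (h7 : 7 ≤ p) (hsq : ¬ p ^ 2 ∣ Nat.card G) (hG : Nat.card G ≠ p) {z : G}
    (hz : orderOf z = p) (hC : Nat.card (centralizer ({z} : Set G)) = 2 * p)
    {χ : IrrCharacter G} {x : G} (h : _root_.Cfsg.Agent.H732.VZ.One χ x) (hx : ¬ p ∣ orderOf x)
    (h4 : 4 ≤ Nat.card (centralizer ({x} : Set G))) :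
    charDegree (χ : G → ℂ) % p = 1 ∨ charDegree (χ : G → ℂ) % p = p - 1 := by
  classical
  have hF : Fact p.Prime := ⟨hp⟩
  obtain ⟨P, hPz, hP⟩ := exists_sylow hp hsq hz
  obtain ⟨K, hK⟩ := exists_isComp P hP
  have hzP : z ∈ (P : Subgroup G) := by rw [hPz]; exact mem_zpowers z
  have hz1 : z ≠ 1 := by
    rintro rfl
    rw [orderOf_one] at hz
    exact hp.one_lt.ne hz
  have hd : p ∣ Nat.card G := hz ▸ _root_.orderOf_dvd_natCard z
  have hw2 := normalizer_ne hd hG (P := P) rfl
  have hK2 : Nat.card K = 2 := by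
    have h1 := card_centralizer hK hP
    rw [← Blocks.CyclicOrtho.centralizer_eq P hP hzP hz1, hC] at h1
    have h2 := hp.pos
    nlinarith only [h7, h1]
  refine mod_of_orb hK hP h hx rfl (fun e t het ht he => arith h4 h7 hw2 het ht he) (fun θ _ =>
      card_orb_of_conj hK (fun y y' hyy => ?_) θ)
  have : y = y' := by
    obtain ⟨a, b, hab, hall⟩ := Nat.card_eq_two_iff.1 hK2
    have h1 : ∀ s : K, s = a ∨ s = b := fun s => by
      have : s ∈ ({a, b} : Set K) := by rw [hall]; trivial
      simpa using this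
    by_cases hy : y = 1
    · rw [hy, orderOf_one] at hyy
      rw [hy, orderOf_eq_one_iff.1 hyy.symm]
    · have hy' : y' ≠ 1 := by
        intro h2
        rw [h2, orderOf_one] at hyy
        exact hy (orderOf_eq_one_iff.1 hyy)
      rcases h1 1 with h2 | h2 <;> rcases h1 y with h3 | h3 <;> rcases h1 y' with h4 | h4 <;> simp_all only [_root_.ne_eq, _root_.Nat.card_zpowers, _root_.Subgroup.mem_zpowers, _root_.Subtype.forall, _root_.not_true_eq_false, _root_.not_false_eq_true]
  rw [this]

end final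

end Cfsg.Agent.H849.OZ
end

-- part: H672/OZ/Full
section
/-!
# One vanishing class: a degree divisible by a full prime power (helper672, for the sporadic rows of S4842)

`h : One χ x`, `c = |C(x)|`, `d = χ(1)`, `N = |G|`, `r ^ n ∥ N`, `n ≠ 0`.

* `full` : if `r ^ n ∣ d`, then `x` has order `r`, `c = r ^ n` and `r ^ n ∣ 1 + N / r ^ n` (no class facts are needed:
  all `r`-singular elements are conjugate to `x`; Frobenius' theorem);
* `okd`, `okd_of` : the resulting Boolean test of the degree, for `decide +kernel` over the list of the divisors.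
-/

set_option autoImplicit false

open Cfsg Cfsg.Agent.Characters Cfsg.Agent.H686.CharKit Cfsg.Agent.H732.VZ Cfsg.Agent.H604.OZ

namespace Cfsg.Agent.H672.OZ

universe u

variable {G : Type u} [Group G]

theorem mem_cent {a g : G} : g ∈ Subgroup.centralizer ({a} : Set G) ↔ g * a = a * g :=
  Subgroup.mem_centralizer_singleton_iff

/-- Conjugate elements have centralizers of the same order. -/
theorem cent_eq_of_conj {a b : G} (h : IsConj a b) : cent a = cent b := by
  obtain ⟨c, rfl⟩ := isConj_iff.1 h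
  refine Nat.card_congr ⟨fun g => ⟨c * g * c⁻¹, ?_⟩, fun g => ⟨c⁻¹ * g * c, ?_⟩, ?_, ?_⟩
  · have h1 := mem_cent.1 g.2
    rw [mem_cent]
    calc c * (g : G) * c⁻¹ * (c * a * c⁻¹) = c * ((g : G) * a) * c⁻¹ := by group
      _ = c * (a * g) * c⁻¹ := by rw [h1]
      _ = c * a * c⁻¹ * (c * g * c⁻¹) := by group
  · have h1 := mem_cent.1 g.2
    rw [mem_cent]
    calc c⁻¹ * (g : G) * c * a = c⁻¹ * ((g : G) * (c * a * c⁻¹)) * c := by group
      _ = c⁻¹ * (c * a * c⁻¹ * g) * c := by rw [h1]
      _ = a * (c⁻¹ * g * c) := by group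
  · intro g
    exact Subtype.ext (by simp [mul_assoc])
  · intro g
    exact Subtype.ext (by simp [mul_assoc])

variable [Finite G] {χ : IrrCharacter G} {x : G}

/-- **A degree divisible by the full power of a prime.** -/
theorem full (h : _root_.Cfsg.Agent.H732.VZ.One χ x) {r n : ℕ} (hr : r.Prime) (hn : n ≠ 0) (h1 : r ^ n ∣ Nat.card G)
    (h2 : ¬ r ^ (n + 1) ∣ Nat.card G) (hd : r ^ n ∣ charDegree (χ : G → ℂ)) :
    orderOf x = r ∧ cent x = r ^ n ∧ r ^ n ∣ 1 + Nat.card G / r ^ n := by
  classical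
  have hF : Fact r.Prime := ⟨hr⟩
  have hc : ∀ g : G, r ∣ orderOf g → IsConj x g := fun g hg => conj_of_singular h hr h1 h2 hd hg
  have hrN : r ∣ Nat.card G := (dvd_pow_self r hn).trans h1
  -- the order
  obtain ⟨y, hy⟩ := exists_prime_orderOf_dvd_card' r hrN
  have hxr : orderOf x = r := (orderOf_eq_of_conj (hc y (by rw [hy]))).trans hy
  -- the centralizer has order divisible by `r ^ n`
  let P : Sylow r G := default
  have hPr : r ^ n ∣ Nat.card (P : Subgroup G) := P.pow_dvd_card_of_pow_dvd_card h1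
  have hPnt : Nontrivial (P : Subgroup G) := by
    rw [← Finite.one_lt_card_iff_nontrivial]
    exact lt_of_lt_of_le (Nat.one_lt_pow hn hr.one_lt) (Nat.le_of_dvd Nat.card_pos hPr)
  have hZ := P.2.center_nontrivial
  obtain ⟨z, hz⟩ := exists_ne (1 : Subgroup.center (P : Subgroup G))
  have hz1 : ((z : (P : Subgroup G)) : G) ≠ 1 := fun h => hz (Subtype.ext (Subtype.ext h))
  have hzr : r ∣ orderOf ((z : (P : Subgroup G)) : G) := by
    obtain ⟨k, hk⟩ := P.2.exists_orderOf_eq_pow (z : (P : Subgroup G))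
    rw [Subgroup.orderOf_coe, hk]
    refine dvd_pow_self r ?_
    rintro rfl
    rw [pow_zero, orderOf_eq_one_iff] at hk
    exact hz (Subtype.ext hk)
  have hPz : (P : Subgroup G) ≤ Subgroup.centralizer ({((z : (P : Subgroup G)) : G)} : Set G) := by
    intro g hg
    rw [mem_cent]
    exact congrArg Subtype.val (Subgroup.mem_center_iff.1 z.2 ⟨g, hg⟩)
  have hcr : r ^ n ∣ cent x := by
    rw [cent_eq_of_conj (hc _ hzr)]
    exact hPr.trans (Subgroup.card_dvd_of_le hPz)
  -- no other prime divides it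
  have hs : ∀ {s : ℕ}, s.Prime → s ∣ cent x → s = r := by
    intro s hsp hsd
    by_contra hsr
    have : Fact s.Prime := ⟨hsp⟩
    obtain ⟨w, hw⟩ := exists_prime_orderOf_dvd_card' s hsd
    have hw' : orderOf (w : G) = s := by rw [Subgroup.orderOf_coe]; exact hw
    have hcomm : Commute x (w : G) := (mem_cent.1 w.2).symm
    have h3 : orderOf (x * (w : G)) = r * s := by
      rw [hcomm.orderOf_mul_eq_mul_orderOf_of_coprime (by
        rw [hxr, hw']; exact (Nat.coprime_primes hr hsp).2 (Ne.symm hsr)), hxr, hw']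
    have h4 := orderOf_eq_of_conj (hc (x * (w : G)) (by rw [h3]; exact dvd_mul_right r s))
    rw [hxr, h3] at h4
    have h5 := hr.pos
    have h6 := hsp.one_lt
    nlinarith only [h4, h5, h6]
  have hc0 : cent x ≠ 0 := Nat.card_pos.ne'
  have hcx : cent x = r ^ (cent x).primeFactorsList.length :=
    Nat.eq_prime_pow_of_unique_prime_dvd hc0 fun {s} hsp hsd => hs hsp hsd
  have hcN : cent x ∣ Nat.card G := Subgroup.card_subgroup_dvd_card _
  have hcent : cent x = r ^ n := by
    set m := (cent x).primeFactorsList.length with hm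
    have hm1 : n ≤ m := by
      rw [hcx] at hcr
      exact (Nat.pow_dvd_pow_iff_le_right hr.one_lt).1 hcr
    have hm2 : m ≤ n := by
      by_contra hlt
      apply h2
      refine (pow_dvd_pow r (by omega : n + 1 ≤ m)).trans ?_
      rw [← hcx]
      exact hcN
    rw [hcx, le_antisymm hm2 hm1]
  refine ⟨hxr, hcent, ?_⟩
  -- the count
  have := Fintype.ofFinite G
  have h3 := H418.Frob.frobenius_dvd (G := G) (r ^ n) h1
  have h4 := card_zeros h
  have h5 : Nat.card {g : G // g ^ (r ^ n) = 1} = 1 + (Finset.univ.filter fun g : G => (χ : G → ℂ) g = 0).card := by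
    rw [Nat.card_eq_fintype_card, Fintype.card_subtype, add_comm, ← Finset.card_insert_of_notMem (a := (1 : G))]
    · congr 1
      ext g
      simp only [Finset.mem_filter, Finset.mem_univ, true_and, Finset.mem_insert]
      constructor
      · intro hg
        by_cases hg1 : g = 1
        · exact Or.inl hg1
        · right
          have hgo : orderOf g ∣ r ^ n := orderOf_dvd_of_pow_eq_one hg
          obtain ⟨k, -, hk⟩ := (Nat.dvd_prime_pow hr).1 hgo
          have hrg : r ∣ orderOf g := by
            rw [hk]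
            refine dvd_pow_self r ?_
            rintro rfl
            rw [pow_zero, orderOf_eq_one_iff] at hk
            exact hg1 hk
          obtain ⟨c, rfl⟩ := isConj_iff.1 (hc g hrg)
          rw [Core.isIrr_isClassFunction χ.2 x c]
          exact h.zero
      · rintro (rfl | hg)
        · exact one_pow _
        · have h6 := orderOf_eq_of_conj (h.uniq g hg)
          rw [hxr] at h6
          have h7 : orderOf g ∣ r ^ n := by rw [← h6]; exact dvd_pow_self r hn
          exact orderOf_dvd_iff_pow_eq_one.1 h7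
    · simp only [Finset.mem_filter, Finset.mem_univ, true_and]
      intro h6
      exact ne_one h (isConj_one_left.1 (h.uniq 1 h6))
  rw [h5] at h3
  have h6 : Nat.card G / r ^ n = (Finset.univ.filter fun g : G => (χ : G → ℂ) g = 0).card := by
    rw [← h4]
    have h7 : Nat.card (Subgroup.centralizer ({x} : Set G)) = r ^ n := hcent
    rw [h7]
    exact Nat.mul_div_cancel _ (pow_pos hr.pos n)
  rw [h6]
  exact h3

/-- The full power of a prime does not divide the degree (by the order of the group only). -/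
theorem not_full (h : _root_.Cfsg.Agent.H732.VZ.One χ x) {r n : ℕ} (hr : r.Prime) (hn : n ≠ 0) (h1 : r ^ n ∣ Nat.card G)
    (h2 : ¬ r ^ (n + 1) ∣ Nat.card G) (h3 : (1 + Nat.card G / r ^ n) % r ^ n ≠ 0) :
    ¬ r ^ n ∣ charDegree (χ : G → ℂ) := fun hd =>
  h3 (Nat.mod_eq_zero_of_dvd (full h hr hn h1 h2 hd).2.2)

/-! ### the Boolean test -/

/-- the full power divides the degree -/
def isFull (d : ℕ) (y : ℕ × ℕ) : Bool := Nat.beq (d % y.1 ^ y.2) 0

/-- the condition of `full` -/
def okFull (N d : ℕ) (y : ℕ × ℕ) : Bool :=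
  !(isFull d y) || (Nat.beq ((1 + N / y.1 ^ y.2) % y.1 ^ y.2) 0 &&
    Nat.ble (y.1 ^ y.2 * (d * d)) (N + y.1 ^ y.2))

/-- residues of the degree -/
def okMod (d r : ℕ) : Bool := Nat.beq (d % r) 0 || (Nat.beq (d % r) 1 || Nat.beq (d % r) (r - 1))

/-- **The test of the degree**: `c0 ≤ c`, `l` the factorization of `N`, `iso` isolated primes. -/
def okd (N c0 : ℕ) (l : List (ℕ × ℕ)) (iso : List ℕ) (d : ℕ) : Bool :=
  Nat.blt 1 d && (Nat.ble (c0 * (d * d)) (N + c0) && (iso.all (okMod d) && (l.all (okFull N d) &&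
    l.all fun y => !(isFull d y) || l.all fun y' => !(isFull d y') || Nat.beq (y.1 ^ y.2) (y'.1 ^ y'.2))))

theorem okd_of (h : _root_.Cfsg.Agent.H732.VZ.One χ x) {N c0 : ℕ} (hN : Nat.card G = N) {l : List (ℕ × ℕ)} (hl : Cfsg.Agent.H417.Divs.val l = N)
    (hp : ∀ y ∈ l, y.1.Prime) (he : ∀ y ∈ l, y.2 ≠ 0 ∧ ¬ y.1 ^ (y.2 + 1) ∣ N) (hc : c0 ≤ cent x) {iso : List ℕ}
    (hiso : ∀ r ∈ iso, charDegree (χ : G → ℂ) % r = 0 ∨ charDegree (χ : G → ℂ) % r = 1 ∨
      charDegree (χ : G → ℂ) % r = r - 1) :
    okd N c0 l iso (charDegree (χ : G → ℂ)) = true := by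
  set d := charDegree (χ : G → ℂ) with hdd
  have hdl : ∀ y ∈ l, y.1 ^ y.2 ∣ N := by
    intro y hy
    rw [← hl, Cfsg.Agent.H417.Divs.val]
    exact List.dvd_prod (List.mem_map.2 ⟨y, hy, rfl⟩)
  have hf : ∀ y ∈ l, isFull d y = true → cent x = y.1 ^ y.2 ∧ y.1 ^ y.2 ∣ 1 + N / y.1 ^ y.2 := by
    intro y hy hyf
    have h3 : y.1 ^ y.2 ∣ d := Nat.dvd_of_mod_eq_zero (Nat.eq_of_beq_eq_true hyf)
    have h4 := full h (hp y hy) (he y hy).1 (by rw [hN]; exact hdl y hy) (by rw [hN]; exact (he y hy).2) h3
    rw [hN] at h4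
    exact h4.2
  have hT2 : cent x * (d * d) ≤ N + cent x := by
    have h3 := cent_mul_sq_le h
    rw [hN, pow_two] at h3
    exact h3
  have hd1 : 1 < d := one_lt_deg h
  have hblt : Nat.blt 1 d = true := by rw [Nat.blt_eq]; exact hd1
  have hmul : ∀ c : ℕ, c ≤ cent x → c * (d * d) ≤ N + c := by
    intro c hc
    obtain ⟨k, hk⟩ := Nat.exists_eq_add_of_le hc
    rw [hk] at hT2
    have h4 : k ≤ k * (d * d) := Nat.le_mul_of_pos_right k (by positivity)
    linarith only [hT2, h4]
  rw [okd, hblt, Bool.true_and, Bool.and_eq_true, Bool.and_eq_true, Bool.and_eq_true]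
  refine ⟨by rw [Nat.ble_eq]; exact hmul c0 hc, ?_, ?_, ?_⟩
  · rw [List.all_eq_true]
    intro r hr
    unfold okMod
    rcases hiso r hr with h3 | h3 | h3
    · rw [h3]; rfl
    · rw [h3]; simp
    · rw [h3]; simp
  · rw [List.all_eq_true]
    intro y hy
    unfold okFull
    by_cases hyf : isFull d y = true
    · obtain ⟨h3, h4⟩ := hf y hy hyf
      rw [hyf, Bool.not_true, Bool.false_or, Nat.mod_eq_zero_of_dvd h4, Nat.beq_refl, Bool.true_and]
      rw [Nat.ble_eq]
      exact hmul _ h3.ge
    · rw [Bool.not_eq_true] at hyf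
      rw [hyf]; rfl
  · rw [List.all_eq_true]
    intro y hy
    by_cases hyf : isFull d y = true
    · rw [hyf, Bool.not_true, Bool.false_or, List.all_eq_true]
      intro y' hy'
      by_cases hyf' : isFull d y' = true
      · rw [hyf', Bool.not_true, Bool.false_or, ← (hf y hy hyf).1, ← (hf y' hy' hyf').1, Nat.beq_refl]
      · rw [Bool.not_eq_true] at hyf'
        rw [hyf']; rfl
    · rw [Bool.not_eq_true] at hyf
      rw [hyf]; rfl

/-- **The sieve**: the list `D` of the divisors of `N` which pass the test. -/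
theorem mem_of_sieve (h : _root_.Cfsg.Agent.H732.VZ.One χ x) {N c0 : ℕ} (hN : Nat.card G = N) {l : List (ℕ × ℕ)}
    (hl : Cfsg.Agent.H417.Divs.val l = N)
    (hp : ∀ y ∈ l, y.1.Prime) (he : ∀ y ∈ l, y.2 ≠ 0 ∧ ¬ y.1 ^ (y.2 + 1) ∣ N) (hc : c0 ≤ cent x) {iso : List ℕ}
    (hiso : ∀ r ∈ iso, charDegree (χ : G → ℂ) % r = 0 ∨ charDegree (χ : G → ℂ) % r = 1 ∨
      charDegree (χ : G → ℂ) % r = r - 1) {D : List ℕ}
    (hD : ((Cfsg.Agent.H417.Divs.divs l).all fun d => !(okd N c0 l iso d) || D.contains d) = true) :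
    charDegree (χ : G → ℂ) ∈ D := by
  have h1 := Cfsg.Agent.H417.Divs.all_divs l hp hl hD (d := charDegree (χ : G → ℂ)) (by rw [← hN]; exact deg_dvd χ)
  rw [okd_of h hN hl hp he hc hiso, Bool.not_true, Bool.false_or, List.contains_iff_mem] at h1
  exact h1

/-- the exponent is lowered by one unless the full power can divide the degree -/
def LowExp.red (N : ℕ) (l : List (ℕ × ℕ)) : List (ℕ × ℕ) :=
  l.map fun y => (y.1, Bool.rec (Nat.pred y.2) y.2 (Nat.beq ((1 + N / y.1 ^ y.2) % y.1 ^ y.2) 0))

theorem LowExp.mem_red {N : ℕ} : ∀ (l : List (ℕ × ℕ)) {d : ℕ}, d ∈ Cfsg.Agent.H417.Divs.divs l →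
    (∀ y ∈ l, okFull N d y = true) → d ∈ Cfsg.Agent.H417.Divs.divs (LowExp.red N l) := by
  suffices H : ∀ (l : List (ℕ × ℕ)) {d : ℕ}, d ∈ Cfsg.Agent.H417.Divs.divs l →
      (∀ y ∈ l, y.1 ^ y.2 ∣ d → Nat.beq ((1 + N / y.1 ^ y.2) % y.1 ^ y.2) 0 = true) →
      d ∈ Cfsg.Agent.H417.Divs.divs (LowExp.red N l) by
    intro l d hd h
    refine H l hd fun y hy hyd => ?_
    have h1 := h y hy
    rw [okFull, isFull, Nat.mod_eq_zero_of_dvd hyd, Nat.beq_refl, Bool.not_true, Bool.false_or, Bool.and_eq_true] at h1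
    exact h1.1
  intro l
  induction l with
  | nil => exact fun hd _ => hd
  | cons x l ih =>
    intro d hd h
    obtain ⟨b, hb, h1⟩ := List.mem_flatMap.1 (show d ∈ (Cfsg.Agent.H417.Divs.divs l).flatMap fun d =>
      (List.range (x.2 + 1)).map fun i => x.1 ^ i * d from hd)
    obtain ⟨i, hi, rfl⟩ := List.mem_map.1 h1
    have h2 : i < x.2 + 1 := List.mem_range.1 hi
    refine List.mem_flatMap.2 ⟨b, ih hb fun y hy hyb => h y (List.mem_cons_of_mem _ hy) (hyb.mul_left _),
      List.mem_map.2 ⟨i, List.mem_range.2 ?_, rfl⟩⟩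
    have h3 := h x List.mem_cons_self
    revert h3
    show _ → i < (Bool.rec (Nat.pred x.2) x.2 (Nat.beq ((1 + N / x.1 ^ x.2) % x.1 ^ x.2) 0) : ℕ) + 1
    cases Nat.beq ((1 + N / x.1 ^ x.2) % x.1 ^ x.2) 0
    · intro h3
      have h4 : i ≠ x.2 := fun h4 => Bool.noConfusion (h3 (h4 ▸ dvd_mul_right _ _))
      show i < x.2 - 1 + 1
      omega
    · exact fun _ => h2

/-- It is enough to test the divisors with the lowered exponents. -/
theorem LowExp.all_of {N c0 : ℕ} {l : List (ℕ × ℕ)} {iso : List ℕ} {g : ℕ → Bool}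
    (h : ((Cfsg.Agent.H417.Divs.divs (LowExp.red N l)).all fun d => !(okd N c0 l iso d) || g d) = true) :
    ((Cfsg.Agent.H417.Divs.divs l).all fun d => !(okd N c0 l iso d) || g d) = true := by
  rw [List.all_eq_true] at h ⊢
  intro d hd
  cases h1 : okd N c0 l iso d
  · rfl
  · have h2 := h1
    rw [okd, Bool.and_eq_true, Bool.and_eq_true, Bool.and_eq_true, Bool.and_eq_true] at h2
    have h3 := h d (LowExp.mem_red l hd (List.all_eq_true.1 h2.2.2.2.1))
    rwa [h1] at h3

/-- **The residue modulo an isolated prime** (helper849's T5; `|C(y)| = p` for every `y` of order `p`). -/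
theorem iso_mod [IsSimpleGroup G] (h : _root_.Cfsg.Agent.H732.VZ.One χ x) {p : ℕ} (hp : p.Prime) (h7 : 7 ≤ p) (hd : p ∣ Nat.card G) (hsq : ¬ p ^ 2 ∣ Nat.card G)
    (hG : Nat.card G ≠ p) (hC : ∀ y : G, orderOf y = p → Nat.card (Subgroup.centralizer ({y} : Set G)) = p)
    (h4 : 4 ≤ cent x) : charDegree (χ : G → ℂ) % p = 0 ∨ charDegree (χ : G → ℂ) % p = 1 ∨
      charDegree (χ : G → ℂ) % p = p - 1 := by
  have hF : Fact p.Prime := ⟨hp⟩
  obtain ⟨z, hz⟩ := exists_prime_orderOf_dvd_card' p hd
  rcases H849.OZ.iso hp h7 hsq hG hz (hC z hz) h h4 with h1 | h1 | h1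
  · exact Or.inr (Or.inl h1)
  · exact Or.inr (Or.inr h1)
  · exact Or.inl (Nat.mod_eq_zero_of_dvd h1.1)

end Cfsg.Agent.H672.OZ
end

private theorem dce_c56d4b8e9a83 : _root_.True := by
  try have : _root_.True := by simp only [_root_.Cfsg.Agent.H849.OZ.Dg.eq_1]
  try have : _root_.True := by simp only [_root_.Cfsg.Agent.H672.OZ.okd.eq_1]
  try have : _root_.True := by simp only [_root_.Cfsg.Agent.H849.OZ.Sg.eq_1]
  exact _root_.True.intro
end

-- part: H121/OZ/JTwoCls
section
prune_inst 0x8000000000000000000000000000014010000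
set_option linter.all false
open scoped Cfsg.Agent.FastGrp

-- part: H121/OZ/JTwoDat
section
/-!
# J₂ on 100 points: the centralizers of the representatives of the classes (helper121)

Generated tables: `CW j` the words (96 bits each) of the elements of the centralizer of the `j`-th representative (see
`H1/J2Cls`), `CK j` the images of the base points (28 bits each), increasing.
-/

set_option autoImplicit false

namespace Cfsg.Agent.H121.OZ.JTwoDat

/-- words -/
def cw1 : Nat := 0x2d469c0000000000000000002e34d400000000000000000000029c00000000000000000000169c0000000000000000000010d400000000000000000005a71a00000000000000000029a71a00000000000000000004271a00000000000000000000005c0000000000000000000084e30000000000000000000014e300000000000000000000021c00000000000000000000109c00000000000000000005469c00000000000820a68868868c00000000000120845a20868c00000000000820a21a20a68c00000000000120a68868868c00000000000905111a20a68c00000000000120a21a20a68c00000000000820845a20868c0000000000000000000010e300000000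00000000000002e30000000000094410d169a20c00000000000000000005a6a300000000000000000000b4e30000000000482d111a20a68c0000000002882d111a20a68c0000000002414434414d169c00000000020868831a21a20c00000000000000000021c69c00000000000000000005c69c0000000000484d105344345c00000000004868831a21a20c00000000020829a21a20b45c00000000004829a21a20b45c00000000020a20868b4d105400000000000000000000a69c0000000000090422d104345c0000000000410422d104345c00000000000129a20845a20c0000000000000000000002d400000000004105344344168c0000000000000000000634d400000000004108831a21a20c00000000000829a20845a20c00000000000000000000171a00000000000000000000a71a0000000000410510d105345c0000000000090510d105345c00000000000000000000b4d400000000000000000000869c00000000000121105a21a20c00000000000821105a21a20c00000000004109a20a68868c00000000000909a20a68868c00000000000908831a21a20c00000000000000000004469c00000000000000000000c69c00000000004a20868b4d105400000000000905344344168c0000000000000000000014d40000000000000000000084d400000000000000000000871a00000000000000000000005400000000000000000000031a00000000000000000000111a00000000000000000000000c00000000000000000000006300000000000000000000022300000000000000000000000b00000000000000000000004400000000000000000000004300000000000000000000021400000000000000000000004200000000000000000000000a00000000000000000000021a00000000000000000000005a000000000000000000000008000000000000000000000001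
/-- words -/
def cw1b : Nat := 0x20828868829a2d30410534e34414d18d16a345a00000144351a20a68868c69c00000000020829a21a20b45a00000120a8d169a31a20a68c0000010e34416888d105346300000000120b44468829a31a0000000014434418d10d10630000000000000000000010d300000000120868c68821a31a00000844344171a68822345a0000000000002414434414d100000000145a8d10422d10630000018d105a2234414d171a00000844344169c68821a31a0000000634416a344344346300000020821a2d38d10d106300000020821a2e34d111a20b00000105a2088d169a20c69c00000128c68829a8d169a20c04220a71a68829c68b45a8d100000000000025344108b4410000000482d468868868c69c000000000000000000000001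
/-- keys -/
def ck1 : Nat := 0x5dd28045cb4df05b9e2f05a9f0bd59a63fc5998d3157f27c4541ba5552fa4b55219b49514071e50206204f3b2084c735024b6a05e48814e9478d30c46a300145c48cb44b348943bf2ac42dbf7241f19a240db5d9401a5373f5976d3e2f4fc3bf90da3a4414a37abd40368e3b035c39bc349031633b1d8c32a2b5931b379c30a3c762dcc7602ce4d502bee48c290a52a2812a6d2728fe2264c39125593a824434cd23621da226abf62164332206da451f8128d1e8e2a81d987091ca1e1e1bb76b81ac5c1419e564918f0e9617ff3c916e71511601579150cb4814162901335eb21234d80100fb2f0f22e780d751280d3a8730c3f15c0b2639a099fb9709406f307bc72b06ccdeb05d64fe0384edf02934120111703001fc36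
/-- keys -/
def ck1b : Nat := 0xef48600ea69400e587400e0a2600d46e700c0e8900afd3000a60c200a399d0097685008da39008b2fd007c8c90072c9500690320064212005f41500530d0004e2940046d800035bd7002716d0022357001fc36

/-- words -/
def cw2 : Nat := 0x111a21c00000000000000000031a21c00021105468b4d46886882d400005105468b4d46886882d400000000000000000904469c00005169a31a2d105a8d169a0000510d171a2d105a8d169a0000510d10d18d168871a2d300005345a68831a2d16a345a00025345a68831a2d10e345a00000000000000004871a21c00000000000000000871a21c00004a2088d169c68b4d105400004a2088d169c6886882d400000a22344169c68829a2d400000a22344169c68821a2d400000a2088d169c6886882d400000000000000000971a21c00004222344169c68821a2d400000000000000004171a21c00000a21a21a31a2d10e345a00004221a21a31a2d10e345a00000000000000000131a21c00000000000000000911a21c00024221a21a31a2d16a345a00004221a21a31a2d16a345a00000a21a21a31a2d16a345a0000510d10d18d168871a21a00000000000000004821c69c00000000000000000821c69c00000000000000000021c69c00000000000000000005c69c00000000000000000831a2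1c00000000000000000121c69c00005104468b4d46886882d400005104468869c6886882d400005345a68831a2d10e345a00005104468b4e345a6882a300000000000000000171a21c00000000000000000104469c00021104468b4e345a6882a300005111a20b45c68829a2d400005111a20869c68821a2d40000518d34414e34d10422d40000422088d169c68b4d105400000a2088d169c68b4d105400000000000000000024469c00000000000000000004469c00000000000000000000c69c0000510d10d18d168b51a2d300000000000000000000000b00000000000000000000004300000000000000000000104300000000000000000000024300000000000000000000004b000000000000000000000009000000000000000000000208000000000000000000000048000000000000000000000008000000000000000000000001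
/-- words -/
def cw2b : Nat := 0x26345c00000000000000000122345c000000000000000000000241000000000000000000000001
/-- keys -/
def ck2 : Nat := 0x5d896f15cb0262592a30258360c355edc0e5515e4e5458646527426c517fff84e828844e252b54d30dfc4bca8ee4addbdf49ddc2348c5ac74704a58464973d440388641824254060fac3f6cd6d3e1a7403d1c8c13ce0d003b95c003a9f24c39af4493912b6837abe65368e3b035c39bc349383433b1cf13343d7e324867130efc192951ec8268c4e42559328252726722ba02a21c5dcb20a36461c944771b8085619e50b418f0e9617ff3c9172ec990b2639a09406f3079299a061f81b05a305103fc8e902f00d20216c430111703001fc36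
/-- keys -/
def ck2b : Nat := 0x23c5f0023bf9001fd00001fc36

/-- words -/
def cw3 : Nat := 0x105c00000000820a21a20a68b4e300000000000a2d104345a6a300000000000b44468829a2d400000000000144468829a2d40000000000000000002410e300000000000b45a6882116a300000000820a6886882d16a30000000000000000000082e300000000000908b4d10422d400000000004845a6882116a30000000010414434414d16a300000000000000000000005c00000000000a20868b4d105400000000000a6886882d169c00000000000000000004105c00000000005104468b4d105400000000000a20a6886882d40000000000510534434416a300000000105104345a6882a30000422d34414d468829a2d400000844344169c68829a2d400004222344169c68829a2d40000014410d169c6886882d400000000005a2234414d16a300000144344169c68821a2d400000000005104345a6882a300000000028822345a6882a30000094410d169c68b4d10540000000000000000002082e30000000000000000000002e300000000005344344168b4e30000000000414434414d169c0000000000014434414d169c00000000020a21a20a68b4e30000000002422d104345a6a300000000004845a20868b4d40000000010414434414d169c00000000000145a20868b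4d400000000024345a6882116a300000000004868b4d10422d40000000010414d10d105a2d40000000000414d10d105a2d40000000000014d10d105a2d400000000000a21a20a68b4e300000000000168b4d10422d400000000020a6886882d16a300000000000a6886882d16a300000000020a20868b4d10540000000000510546886882d40000000002882a34434416a300000000828822345a6882a300000000000b4634d10422d400000000105104468b4d10540000000000484634d10422d400000000024231a6882116a300005111a20b4e34414d10d40000000000000000000090e300000000000a2234414d16a300000000005a2d104345a6a300000000020828868829a2d40000084410d169c68b4d105400000000000000000000121c00000000000145a6882116a30000000000414434414d16a30000000000014434414d16a300000000005a31a6882116a300000000004144468829a2d40000000000014634d10422d400000000104144468829a2d400004220868b4e345a6882a300000a21a20b4e34414d10d400000000000028b4d10422d400000000000828868829a2d400000000000028868829a2d400000000000b45a20868b4d400000000020a2234414d16a300000000000a31a6882116a300000000820a2234414d16a300000000000000000004821c00000000000000000000122300000000000000000000106300000000000000000000020c00000000000000000000024400000000000000000000904400000000000000000000000c00000000000000000000006300000000000000000004106300000000000000000000000b00000000000000000000820c00000000000000000000820b00000000000000000004822300000000000000000000904300000000000000000000024300000000000000000000020b000000000000000000000041000000000000000000001208000000000000000000000048000000000000000000001041000000000000000000000001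
/-- words -/
def cw3b : Nat := 0x20828868829a2d300000000020829a21a20b45a000000000000000000000001
/-- keys -/
def ck3 : Nat := 0x5e743275dd76155cc52945bbf7675abeb8759cb8aa58ecfb0583bbb956f49cd55df0ab557b2d05484a1352fa4b5520affd5118874501f2e74f4ffa84e3f6274dd11d04cd9d894b99bae4b3f6be49dda3448f8f1747c4c3146f38e8462b6b8454ee9f43f1a5942db4e341f19a241643e83ff59fe3f03e653e3e3173de617e3c22b163b3d1473a4433b3a01ecc3851e2a376c581366c1e4357a64e34b32f93396f8f335ee44326919d30a3c762fdae3e2f568ac2e5ef0c2da1b9e2c01d0f2b1628a2a873c929520fa283736a27a300a26ab4352532266250ebc7235082022eadd52206ad621101241fbc5411eacaf31da990d1cbf29c1be6f071af553519c2e5218d2be117dfcc716e7efa167b7a9157f808149518f131c4801279720121c6dd1042f7a0f515130e5f8b20d751280d3a8730c3f3be0b2639a099fc6109404fd07d24600792bf5061f81b05a30b703fc94c02eff410216c4301117cc001fc36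
/-- keys -/
def ck3b : Nat := 0xef48600e0a26001fc36

/-- words -/
def cw4 : Nat := 0x2534410d169c6886882d30000000002088d169a20845c00000000004108b4410d169c00005a21a20b4e34414d169a0000000002084634410d169c0000000000410d169a20845c00028b4410d169c6886882d30000000002082a344344169c00000000004109a20a68869c00000b4410d169c6886882d300000000820a8d10d105a2d40000000010414434414d169c00005344344169c68829a2d300000000020851a20a68869c00000000004105344344169c00000b44344169c68821a2d300000000820a2234414d169c0000000010414d10d105a2d40000000000410546886882d30000000000410a34414d10d300000000000000000000028c00000000104151a21a20b45a00000000104144468829a2d300000000000000000000000c00000000004111a2d344108b00000000004108c68821a2d300000000000000000000025400000000000821168821a2d300000000000821a2d344108b00000000000000000000004a0000000000082134414d10d300000000000820a6886882d300000000000000000000005100000000020828868829a2d300000000020829a21a20b45a000000000000000000000001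
/-- keys -/
def ck4 : Nat := 0x5d046495cb16295c91a5959510d658e0bf658c10263d9ab133d342733d146a33c02d573b41f673b3d14739d3a68396358839439b83840bf137713a1376c58111c4bb811baf781134b080e497980e3ad380d751280c1093a0bf347a0b8088a093420d0916d4d08c3d2d055e8ff0554cbf04ee41f00ef48600e0a26001fc36

/-- words -/
def cw5 : Nat := 0x2130000000000000000000000530000000000000000000014d300000000000000000000169a00000000000000000000021a00000000000000000000005a000000000000000000000008000000000000000000000001
/-- keys -/
def ck5 : Nat := 0xb4fba509650dc074e441065c9770384edf02934120111703001fc36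

/-- words -/
def cw6 : Nat := 0x25c00000000000000000b4d46880000000000000000002d351a00000000000000000029a71a00000000000000000000005c00000000000000000a6a344300000000000000000a71a68800000000000000000000021c00000000000000120a6a344300000000000000004a69c69c00000000000000000a69c69c00000000000000004a71a6a300000000000000020a71a6a300000000000000000129a71a00000000000004829a71a21c00000000000000829a71a21c00000000000000029a71a21c00000000000000029c69a22300000000000000129a71a21c0000000000000000012d351a0000000000000000082d351a00000000000000020a6a344300000000000000120a69c68800000000000000000129a8d300000000000000000829c69a00000000000000000a71a6a300000000000000000000121c00000000000000000a69c68800000000000000004a69c68800000000000000020a69c68800000000000000004a6a344300000000000000000129c69a00000000000000000029c69a00000000000000000029a8d300000000000000000000821c000000000000000000001223000000000000000000000263000000000000000000000063000000000000000000000223000000000000000000008223000000000000000000000009000000000000000000000208000000000000000000000048000000000000000000000008000000000000000000000001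
/-- words -/
def cw6b : Nat := 0x10414d38d105346344351a0000000012084d468821351a00000020821346344351a20800004109a31a2d38d105351a00000000000829a31a2d468800000000104109a31a2d468800020829a8d105346345a71a0000000000000002538d34630000000000000002534e345c00004109a8d105346345a71a00000024109a8d10426a344100004169a8d105346344351a0000000000084d468821351a00000000105346344351a20800000000109a8d10426a344100004268c68b51a20a6a344300000829a8d105a68c68b51a00020829c69a20a68c68b51a00004a71a2d171a68829a8d300004a68c68b4e344169a8d30000538d34414d18d169c68b00000000000000000000024100109a31a2d38d105351a208000000000000000000000001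
/-- keys -/
def ck6 : Nat := 0x5e749c85b6953858e90ef57f27c452fa4b55291b11519b1c250206204ec47bc4dd3aba4d2cd994621a6c415a81d39a529338b238e37996fd36aa408364feb933cb4a832c517f31fce203132d862bb2feb2abc82427c0e06270aa4823508201f56ec71dcb4b31d1908017695b116a28d5155d48914cad2e131c9011279720121cb280d3a8730c3f15c07d265b03fc8e902f00d20216c430111703001fc36
/-- keys -/
def ck6b : Nat := 0x2227d00221210021d230021ca80021b8b0021880002139500212010021131002109c0020d360020a470020828002058f002050400203ac002039000202ec0020092001ff03001fd85001fd00001fcfb001fc36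

/-- words -/
def cw7 : Nat := 0x12d105a68c00000000000908b4410d169c00000000025a20a68b4e344100000000000000845a20b45c0000000000088d169c68869c00000000000021a2d38d10d30000000014d169a2084e34410000000000090d169a20845c0000000000000098d105a68c00000000000000028b45a21c00000000000831a2d38d169a0000000000000090510e344100000000028c68b45c68b44300000000000145a2d38d10d300000000000004231a20b45c00000000000020a2d105a68c00000000000a31a2d38d10d300000000000000828829a20c0000000000082d169c68b4d400000000025a20b45a8d169a00000000025a20b4438d10d300000000004b4414d16a34410000000002634414d16a344100000000000000004468b4d400000000131a20b4e344168b00000000000000000868b4d400000000000000020b45a2d400000000000000106345a2d400000000131a20b4438d10d30000000000010518d105a68c00000000005168b45c68b44300000000025a20b4e344168b0000000000082134414d169c0000000000000434414d169c00000000129a20868b4e344100000000151a21a20b4e344100000000845a20868b4e34410000000010414434414d169c00000000168829a2d346344100000000029a21a20b4e344100000000168b4d10538d169a00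00000010414d10d105a2d400000000000821a2d34414d40000000000002d168b4414d400000000000028b4414d169c00000000021a2d34414e34410000000010d10d105a2e344100000000000005a2d344109c0000000000012a344168b4440000000000000414414e34410000000000418d169c68b4d40000000010d10d171a20b45c0000000000000090422e344100000000000025344168b44400000000000000146345a21c00000000000105a2d38d169a0000000000518d169c68869c00000000000000844109a20c00000000000000004829a20c00000000020b45a2e345a2d400000000028b45a2e345a21c00000000000020846345a2d40000000000000422084e344100000000020c68b45c68b45a00000000000000129a20b45c0000000000000002414e344100000000106345a2e345a2d40000000012a34410d16a344100000000000000005468869c00000000146345a2e345a21c00000000000004108b45a2d400000000000a2d169c68869c00000000000000000a68869c0000000002534410d16a34410000000000010d169c68869c00000000000000120845a20c00000000000000951a20b45c00000000004168b45c68b45a00000000000000120a21a20c00000000000111a2d38d10d300000000000000020c68b45a00000000000000000a8d10d30000000000000000482a344100000000000000000000144400000000000000000025104400000000000000000000000c00000000000000000000105400000000000000028c68b44300000000000000000000020a0000000000000000088d169a00000000000000005168b44300000000000000000020828c00000000000000000004105100000000000000004168b45a0000000000000000014d10d300000000000000000905344100000000000000000004a2080000000000000000000002880000000000000000010d169a000000000000000000000001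
/-- words -/
def cw7b : Nat := 0x20828868829a2d300000000020829a21a20b45a000000000000000000000001
/-- keys -/
def ck7 : Nat := 0x5e76c985d887925d4429b5ba56f35b739b75a6ccce58e831f57cf55e56f58b555e2f855532d84541cc6753625285241ce1512e6d7501ff0350106234e40a6d4d762854d1852b4c2ddfe4b001704a01e4748ab413484d8dc46a222b45a896244d486c446089142dc1c7421443e41525223fe70023ef88bb3ea48393ddef093cd4ea93b3d1473a6e76839e25553901aa5376c581365d7e8356f0a8347c9ee3453d0c33723a631a019830d374a2fdc02a2f137cf2e9af332cec0962bef0ac2b184f22a59a622933dbe2818d312731e5a26d06bd2604a6c245cc842373508229f411216ca0a208a999204daa51f164381da945d1d68d751bbfc0d1b9a3eb19c48e219678901843ad416e6aaa161a7bf155b0701416d40138c513127ba4a11e46c410b0d4f0f42b170e534980d751280c7762a0bbdc410a913980a3982608d73bc07a8de106d1b4b05ffd0d05795e90498d520303b4b020a95701a6a21001fc36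
/-- keys -/
def ck7b : Nat := 0xef48600e0a26001fc36

/-- words -/
def cw8 : Nat := 0x4a2088d169c68b4d105400020a2088d169c6886882d400004222344169c68829a2d400000a22344169c68821a2d400000a2088d169c6886882d40002118d34414d468829a2d400005111a20b4e34414d10d400021104468b4e345a6882a30000422088d169c68b4d10540002422088d169c6886882d400000000000000000000000b00000000000000000000820b00000000000000000000904300000000000000000000024300000000000000000000020b000000000000000000000041000000000000000000001208000000000000000000000048000000000000000000001041000000000000000000000001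
/-- keys -/
def ck8 : Nat := 0x4bca8ee4addc3e49dda3448c5ac74704a584402bc929520fa25272671c944771b807c50b2639a09404fd0792bf5061f81b05a30b703fc94c02eff410216c4301117cc001fc36

/-- words -/
def cw9 : Nat := 0x12d346345a8d10426a34410000000000000000002d351a00000000000000000029a71a00000000000000000000005c0082084d468829a31a2d38d10012084d468829a31a2d38d100000000000000000000021c00000000000000000a69c69c0082084d468829a31a2d468b0012084d468829a31a2d468b00000000000000000a71a6a30010414d46882d346345a8d10082d346345a8d10426a344100000000000000000029c69a00000000000000000029a8d30002414d46882d346345a8d10010414d38d105346345a8d10000000000000000000000630000000000000000000002230002414d38d105346345a8d100025346345a71a20a6a344100105346345a71a20a6a3441000000000000000000000008000000000000000000000001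
/-- keys -/
def ck9 : Nat := 0x5b69ab858e90ef57f27c452fa4b552915a0519acb550206204d2cd9936ab835365134a270aa48234e93d1f58ccc155d48914cad2e131b0b012793300d3a8730c3f15c07d26ad02f005c0216c330111703001fc36

/-- words -/
def cw10 : Nat := 0x2534410d169c6886882d300005a21a20b4e34414d169a00028b4410d169c6886882d300000b4410d169c6886882d300005344344169c68829a2d300000b44344169c68821a2d300000000000000000000028c00000000000000000000000c00000000000000000000025400000000000000000000004a000000000000000000000051000000000000000000000001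
/-- keys -/
def ck10 : Nat := 0x5d0464959510d63d9ab133c02d5739d3a683840bf11134b080d751280b8088a08c3d2d04ee41f001fc36

/-- words -/
def cw11 : Nat := 0x29c00000000000000000005a8d300000000000000000000109c00000000000000000a69c69c00000000000000000005a6a30000000000000000000534e300000000000000000005c69a00000000000000000a71a6a300000000000000000000031a00000000000000000000111a000000000000000000000008000000000000000000000001
/-- keys -/
def ck11 : Nat := 0x5b9e2f059e34be4f3b2084d2cd99401a5373f28a2c284fb1d270aa48100fb2f0f22e780111703001fc36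

/-- words -/
def cw12 : Nat := 0x10534410d169c6886882d300021a21a20b4e34414d169a0014434410d169c6886882d300025a20868b4d468b4d105300000b4410d169c6886882d300000b44344169c68821a2d300029a21a20b4e34414d10d30012d104345a6a345a68829c0002d105345a6a344344168b0010d10d105a2e34410d169a00000000000000000000144400000000000000000025104400000000000000000000000c00000000000000000000105400000000000000000000020a00000000000000000020828c00000000000000000004105100000000000000000004a208000000000000000000000288000000000000000000000001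
/-- keys -/
def ck12 : Nat := 0x5df6562584485e40749a23f7ed2b3c02d573840bf136f4dc8360dbb834fe03e3239e880f42b170e534980d751280c7762a0a9139807a8de106d1b4b0303b4b020a957001fc36

/-- words -/
def cw13 : Nat := 0x105c00000000000000000000005c00000000000000000004105c00000000000000000000121c00000000000000000004821c000000000000000000001223000000000000000000001063000000000000000000000063000000000000000000041063000000000000000000048223000000000000000000000041000000000000000000001208000000000000000000000048000000000000000000001041000000000000000000000001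
/-- keys -/
def ck13 : Nat := 0x5e7432752fa4b5501f2e72350820131c4801279720121c6dd0d3a8730c3f3be07d246003fc94c02eff410216c4301117cc001fc36

/-- words -/
def cw14 : Nat := 0xc6882d111a20a68b0000000000000000002d469c00000000c68b44111a2d34410000000446882d111a20a68b0000000000000000002e34d400000000a8d105a8d10d10d100000820846345a8d10534630000000090510d105345c69c00905a6a344169a31a2d18d10000000410510d105345c69c00000120846345a8d105346300968b46345a8d105a6a344100000000821105a21a20c69c0000012a34414d111a21a20c2414d46882d346345a31a2d30000002414434414d169c69c0082084d468829a31a2d38d100000c68868831a21a20c69c0000002414434414d171a6a30012084d468829a31a2d38d100004468868831a21a20c69c00000000000000000a69c69c0000000088d10d10634434410000000018d10434634410d10634414d38d105346345a8d100000000820845a20868c69c00000120844468b51a20a68c04a68c68b4e34414d468829c00000000120845a20868c69c00000120846345a31a20a68c00000000905344344168c69c00905351a20b4d18d168c68b00000820868c68b51a20a68c00945a31a2d46882d351a20b0000000090534434434634d40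0000120868c68b51a20a68c00000000000000000031a6a30000000438d16a344108b4410000000438d105a2234414d100000000b8d16a344108b44100000000000000000029c69c00000000b8d105a2234414d100000000000000000a71a6a30000000018d10d10634434410000000088d10434634410d10000002414d10d105a2d469c00000c68821a31a20868c69c0010414d46882d346345a8d100000000121105a21a20c69c00000128c68829a31a21a20c24109a8d105346345a8d169c0000002e34416888d105345a00000000000000000004469c00000029a8d105a8d10d10d100000029c6882d111a20a68b00000000000000000000c69c00000029c68b44111a2d34410000002414d10d105a2e34d400004468821a31a20868c69c0002414d46882d346345a8d100000000909a20a68868c69c0000012d468829a31a21a20c04144346344351a20a6a34410000082d468829a31a21a20c00000004109a20a68868c69c00944346344351a20a6a34410000000414410d169a20c69c0410534e34414d18d168b8d10000082a34414d18d10d10630000000094410d169a20c69c0090534e34414d18d168b8d10000012a34414d18d10d10630000000000000000000002130000000000012134414d10d100000000000120a6886882d100000000000000000000005300000000000820a6886882d10000000000082134414d10d10000000000000000000014d300000000000024108b4410d100000000000104220b44344100000000000000000000169a00000000000104108b4410d100000000000024220b44344100000000000120a21a20a68b00000000000128821a2d344100000000000000000000021a00000000000000000000005a00000000000828821a2d344100000000000820a21a20a68b00000000004828868829a2d300000000004829a21a20b45a00000000000000000000000800000000020828868829a2d300000000020829a21a20b45a000000000000000000000001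
/-- keys -/
def ck14 : Nat := 0x5e47b045dd28045d894245d560105cb4df05c92b10590dac658f060658c1fd657feb3957f00d957d050954dc87354d0523540820352a753052915a0520b13051b5a65519acb551196654d2cd994c698994c6718943b2ca342e0d4342d981342bc3b841ef27841ea458408f7ec4048b1c3fe709c3fb63d13f9dd313ef55e137343b93708499365d6393611bae35c129e356bb6e270aa482647548263d90823d269d2370c1d234e93d23440b22337d62226d332196fdd618f0e9618d12c618794e917ff3c917df7f9139ee101338570131b0b01005f310f9a8710f42a310f255d60eb02d60e50f660d381a80ca32d80c773b80c418880bb17d80b80a980b4fba50ad81950abd3e509650dc08d291c08c65cc074e4410735da106d1c11065c97706442d705e014703b350f039fc8f0384edf0293412024a03202403f201e0f5301d7313011170300ef48600e0a26001fc36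

/-- words -/
def cw15 : Nat := 0x4829c68868b4e344100000000000000000000829c00000000000000005c68868800000000000000004108b4e300000000000020844345c69c00000000104221a21c68b4e300000000000000000000c68800000000171a21a21c6886880000000000002e3443444688000000000000000000000001
/-- keys -/
def ck15 : Nat := 0x5f2fb6b4f43a8a43246cb3bf51751b6bf6b187913412c78bc09c040a05599a9001fc36

/-- words -/
def cw16 : Nat := 0x94d300000000000004108b4410d100000000000021105a21a2080000000000000082084d105300000000000000000845a2d100000000000000120b44168800000000000020821168821a00000000000004844168868800000000000000000000b4d100000000000000105105a20b00000000000000820b45a20a00000000000000000945a21a00000000020828868829a2d300000000020829a21a20b45a000000000000000000000001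
/-- keys -/
def ck16 : Nat := 0x74e56a0735eca06d1d3a06664e406098840604a64046aa430460e0303fa56302870c00269c000216be000ef48600e0a26001fc36

/-- words -/
def cw17 : Nat := 0x4145c00000000844345c68829a71a00000000004b51a20b4446880000000000000012e34416880000000000538d168829a71a00000000a71a2d104271a21a00000000000000105105a2e300000000000000000004c68800000000004108b4418d3463000000000000000000000001
/-- keys -/
def ck17 : Nat := 0x5032a064a796674602a35425827b31b7f8e2ad5ef3109c6450c5033007377c0001fc36

/-- words -/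
def cw18 : Nat := 0x4c68b4418d16880000000000000000098d168800000000000000000828b45c00000000004145a20b46345c00004145a71a20b4d18d346300004b51a2d468829a71a21a000000000000000000000001
/-- keys -/
def ck18 : Nat := 0x33aa7b11036a3b0c822480a92f9d07aa74a036274e001fc36

/-- words -/
def cw19 : Nat := 0x4829c68868b4e34410000002414e345a20b4e344100000000904271a20a6a344100000120a71a2d10534e344100000004b8d16882e345a2080000414414d38d105a6a344100000000000004144171a20b00000145c69a31a6882118d100000000000000000000829c00000000000000021a20a69c0000000000018d344109c68800000000000000005c68868800000000104271a20b45a2e300004109c6882d351a20a69c00000000000000004108b4e300000000000104271a20a69c0000422d105a31a2d38d16a300000000105a20a6a34410d30000000010d105344171a20b00000109a8d10534e344109a00000000c69a20a6a34410d300000169a20a6a344109a2230000000410516882e345a2e300000109a2084d468829a71a00000104351a20a6a34414d30000082138d105344171a20b0000000086882d351a20a69c00000000000021a20b45a2e30000002414e344168b4e344100000000905351a20a6a344100000000000020844345c69c0000000000410516882d469c00004271a20a69c68829a21c0000000000634d106345a20800000000104221a21c68b4e300000020844168c6882d469c00000000000025c68b4410d30000082d105351a20869c6880000000000000482d105c68800000000000000000000c6880000012886882a345a71a2d400000000000000031a68821300000031a68831a2d104468800000000171a21a21c6886880000000012e345a20869c6880000000000002e344344468800000000000000000905a20b0000000090534e344109a20c00000000000006345a20a69c000000000000000000000001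
/-- keys -/
def ck19 : Nat := 0x5f2fb6b5ee69e7597823b58d329258738a55826a1c559643954ebf044f43a8a4f33634434d88c43246cb3dd90df3d36f623bf51753befc202b945fc2b8c3ac2567ea6254dfbe24f677f24a02b322cdf6c226bcc322348fd21f5a092047630202c3201d330ce1d1a09f1b6bf6b1ae0ec219b5ce4197fd88187913417edd5f13e3613139f234130572f12c78bc0f353430ec615409f377809c040a05adf9405599a903718520305d5b0028f93001fc36

/-- words -/
def cw20 : Nat := 0x4b45c68b4438d105a2d400000000000000821a31a21a00000000000828b4e345a6a30000000518d10434634410d400000000004171a2d171a21a00000120a71a2d10534e344100000020a8d10d38d105a2d40000000000000002d18d168800000a2d16a34414d468868800000000000000000b51a21a0000000000000000422d10e30000000484434446886888d100000029c68b45c6882d171a00000000000004b4418d168800000a2d169c6882116888d100000000000000000845a6a300000000000108b4e34434e30000090882d171a2d468829a0000518d104345c68b45c68b0000000000010e345a71a21a00000000a2e34414d171a2d400000000000004145a20b46300000000020a2d171a2d16a300000028b8d105a2e345a71a0000000000422d17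1a2d10e300000026345a8d105346345c00000000000000845a21a2230000082134634414d171a2d400000000845a21a31a2d10e300004145c6882d171a2d171a0000014414d18d105351a20a00000000000000004171a21a00000028c68821a71a2d344400000000000000020a2d16a30000000002d18d168b8d168800000000a2e345a2e34414d400000000000b46345a71a21a00000145c6886888d169a8d300000000821a31a2d171a21a00005171a2d171a20b45c6880000090886888d105a8d169a00000000000000000000b44300000169a8d10d10d171a2d400000000000000000104168b0000000000000000012d104300000004220c68868831a2d400000821169a8d105346345a0000000000000000000082d300000028b45a8d105346345a000000000000000000000001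
/-- keys -/
def ck20 : Nat := 0x5ed72895e75d105cba5a85c97d15590c90958d32925739d3756cffef50616505028865496564548d50d142f81e942d98293ed1a723e6a34d3dbebec3d146803989b09396a7df3929db238b5d073798174375641b35dcf9e356aa8233c4c2c33b08cb297cce6290f13928f970d281146224e6083247340d1f2d87b1e989190f3453e0ec6dcc0e3030a0dfe9e50af81c60ace3cd06e6d8406c0bc5063085c0601f34039337803801850073a92001fc36

end Cfsg.Agent.H121.OZ.JTwoDat
end

-- part: H121/OZ/Cover
section
/-!
# Class equations and small subgroups (helper121, for S4842)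

* `class_eq` : a family `r j` meeting every class, with `c j ≤ |C(r j)|` and `∑ |G| / c j ≤ |G|`: `|C(r j)| = c j` and the
  `r j` are pairwise not conjugate;
* `sum_hom` : `∑ χ (f h)`, `f : H → G` a homomorphism, is divisible by `|H|`;
* `sum_pow_pow` : the same for the commuting elements `a`, `b`.
-/

set_option autoImplicit false

open Cfsg Cfsg.Agent.Characters Cfsg.Agent.H732.VZ Cfsg.Agent.H604.OZ

namespace Cfsg.Agent.H121.OZ

universe u v

variable {G : Type u} [Group G] [Finite G]

/-- **The class equation** with lower bounds for the centralizers. -/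
theorem class_eq {ι : Type v} [Fintype ι] (r : ι → G) (c : ι → ℕ) (hc0 : ∀ j, 0 < c j) (hc : ∀ j, c j ≤ cent (r j))
    (hd : ∀ j, c j ∣ Nat.card G) (hcov : ∀ g, ∃ j, IsConj (r j) g) (hs : ∑ j, Nat.card G / c j ≤ Nat.card G) :
    (∀ j, cent (r j) = c j) ∧ ∀ i j, IsConj (r i) (r j) → i = j := by
  classical
  have := Fintype.ofFinite G
  set N := Nat.card G with hN
  have hNF : N = Fintype.card G := Nat.card_eq_fintype_card
  let K : ι → Finset G := fun j => Finset.univ.filter fun g => IsConj (r j) g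
  have hK : ∀ j g, g ∈ K j ↔ IsConj (r j) g := fun j g => by simp [K]
  have h1 : ∀ j, (K j).card * cent (r j) = N := fun j => H849.OZ.card_class (r j)
  have h2 : ∀ j, (K j).card ≤ N / c j := by
    intro j
    rw [Nat.le_div_iff_mul_le (hc0 j)]
    calc (K j).card * c j ≤ (K j).card * cent (r j) := Nat.mul_le_mul_left _ (hc j)
      _ = N := h1 j
  have h3 : ∀ s : Finset ι, (∀ g, ∃ j ∈ s, IsConj (r j) g) → N ≤ ∑ j ∈ s, (K j).card := by
    intro s hs
    have h4 : (Finset.univ : Finset G) ⊆ s.biUnion K := by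
      intro g _
      obtain ⟨j, hj, hg⟩ := hs g
      exact Finset.mem_biUnion.2 ⟨j, hj, (hK j g).2 hg⟩
    have h5 := (Finset.card_le_card h4).trans Finset.card_biUnion_le
    rwa [Finset.card_univ, ← hNF] at h5
  have h4 : ∑ j, (K j).card = ∑ j, N / c j := by
    refine le_antisymm (Finset.sum_le_sum fun j _ => h2 j) (hs.trans (h3 Finset.univ fun g => ?_))
    obtain ⟨j, hj⟩ := hcov g
    exact ⟨j, Finset.mem_univ _, hj⟩
  have h5 : ∀ j, (K j).card = N / c j := fun j =>
    (Finset.sum_eq_sum_iff_of_le fun j _ => h2 j).1 h4 j (Finset.mem_univ _)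
  have hpos : ∀ j, 0 < (K j).card := fun j => Finset.card_pos.2 ⟨r j, (hK j _).2 (IsConj.refl _)⟩
  constructor
  · intro j
    have h6 := h1 j
    have h7 : (K j).card * c j = N := by rw [h5 j, Nat.div_mul_cancel (hd j)]
    exact Nat.eq_of_mul_eq_mul_left (hpos j) (h6.trans h7.symm)
  · intro i j hij
    by_contra hne
    have h6 := h3 (Finset.univ.erase i) fun g => by
      obtain ⟨l, hl⟩ := hcov g
      by_cases hli : l = i
      · refine ⟨j, Finset.mem_erase.2 ⟨fun h => hne h.symm, Finset.mem_univ _⟩, ?_⟩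
        rw [hli] at hl
        exact hij.symm.trans hl
      · exact ⟨l, Finset.mem_erase.2 ⟨hli, Finset.mem_univ _⟩, hl⟩
    have h7 := Finset.add_sum_erase Finset.univ (fun l => (K l).card) (Finset.mem_univ i)
    rw [h4] at h7
    have h8 := hpos i
    have h9 : ∑ j, N / c j ≤ N := hs
    omega

omit [Finite G] in
/-- The sum of a character over the image of a homomorphism. -/
theorem sum_hom {H : Type v} [Group H] [Fintype H] (f : H →* G) {χ : G → ℂ} (hχ : IsCharacter G χ) :
    ∃ m : ℕ, ∑ h : H, χ (f h) = Fintype.card H * m := by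
  have h1 : IsCharacter H (χ ∘ f) := Core.isCharacter_comp f hχ
  obtain ⟨m, hm⟩ := Core.classInner_isNat h1 Core.isCharacter_one
  refine ⟨m, ?_⟩
  have hne : (Nat.card H : ℂ) ≠ 0 := by exact_mod_cast Nat.card_pos.ne'
  rw [Core.classInner_def] at hm
  rw [← Nat.card_eq_fintype_card, ← hm, mul_inv_cancel_left₀ hne]
  refine Finset.sum_congr rfl fun h _ => ?_
  simp

/-- The sum of a character over the products of the powers of commuting elements. -/
theorem sum_pow_pow {χ : G → ℂ} (hχ : IsCharacter G χ) {a b : G} (hab : Commute a b) {m n : ℕ} (ha : orderOf a = m)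
    (hb : orderOf b = n) : ∃ k : ℕ, ∑ i : Fin m, ∑ j : Fin n, χ (a ^ (i : ℕ) * b ^ (j : ℕ)) = m * n * k := by
  classical
  subst ha hb
  let f : ↥(Subgroup.zpowers a) × ↥(Subgroup.zpowers b) →* G :=
    MonoidHom.noncommCoprod (Subgroup.zpowers a).subtype (Subgroup.zpowers b).subtype (by
      rintro ⟨x, hx⟩ ⟨y, hy⟩
      obtain ⟨i, rfl⟩ := Subgroup.mem_zpowers_iff.1 hx
      obtain ⟨j, rfl⟩ := Subgroup.mem_zpowers_iff.1 hy
      exact (hab.zpow_left i).zpow_right j)
  have := Fintype.ofFinite ↥(Subgroup.zpowers a)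
  have := Fintype.ofFinite ↥(Subgroup.zpowers b)
  obtain ⟨k, hk⟩ := sum_hom f hχ
  refine ⟨k, ?_⟩
  rw [Fintype.card_prod, ← Nat.card_eq_fintype_card, ← Nat.card_eq_fintype_card, Nat.card_zpowers, Nat.card_zpowers] at hk
  push_cast at hk
  rw [← hk, Fintype.sum_prod_type]
  rw [← Equiv.sum_comp (finEquivZPowers (isOfFinOrder_of_finite a))]
  refine Finset.sum_congr rfl fun i _ => ?_
  rw [← Equiv.sum_comp (finEquivZPowers (isOfFinOrder_of_finite b))]
  refine Finset.sum_congr rfl fun j _ => ?_
  rfl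

end Cfsg.Agent.H121.OZ
end

-- part: H121/OZ/JTwoCls
section
/-!
# The classes of `J₂` (100 points): orders and centralizers (helper121)

`r j = gw (rL j)`, `j < 21`: the representatives of `H1/J2Cover`.

* `type` : every element is conjugate to exactly one `r j`; its order is `ov j`, its centralizer has order `cv j`.
-/

set_option autoImplicit false
set_option maxRecDepth 100000

namespace Cfsg.Agent.H121.OZ.JTwoCls

open Cfsg.Agent.H1

open Cfsg.Agent.SporadicA.PermTab Cfsg.Agent.SporadicA.J2Hundred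
open Cfsg.Agent.J2.HundredGens Cfsg.Agent.H1.J2Cls Cfsg.Agent.H1.J2Cover Cfsg.Agent.H121.OZ.JTwoDat
open Cfsg.Agent.H604.OZ (cent)

/-- an entry of a table of keys -/
def gk (T i : ℕ) : ℕ := Nat.land (Nat.shiftRight T (Nat.mul 28 i)) 268435455

/-- the images of the base points -/
def key (w : ℕ) : ℕ :=
  Nat.add (Nat.mul 100 (Nat.add (Nat.mul 100 (Nat.add (Nat.mul 100 (J2Cls.rw 32 w (bs 0))) (J2Cls.rw 32 w (bs 1))))
    (J2Cls.rw 32 w (bs 2)))) (J2Cls.rw 32 w (bs 3))

/-- `w` commutes with `r` and has the key `k` -/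
def okE (r w k : ℕ) : Bool := band (Nat.beq (key w) k)
  (allB (fun i => Nat.beq (J2Cls.rw 32 w (J2Cls.rw 32 r (bs i))) (J2Cls.rw 32 r (J2Cls.rw 32 w (bs i)))) 4)

/-- the test of a list of elements of the centralizer -/
def chkC (r W K n : ℕ) : Bool := band (allB (fun i => okE r (ge W i) (gk K i)) n)
  (allB (fun i => Nat.blt (gk K i) (gk K (Nat.succ i))) (Nat.pred n))

theorem gw_eq_of_base {w r : ℕ} (h : ∀ i < 4, J2Cls.rw 32 w (J2Cls.rw 32 r (bs i)) = J2Cls.rw 32 r (J2Cls.rw 32 w (bs i))) :
    gw (dec 32 w) * gw (dec 32 r) = gw (dec 32 r) * gw (dec 32 w) := by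
  rw [← gw_append, ← gw_append]
  apply Subtype.ext
  change pw _ = pw _
  apply pw_eq_of_base
  intro i hi
  have hbi := bs_lt i hi
  have h6 : J2Cls.rw 32 w (bs i) < 100 := by rw [← run_dec' _ _ hbi]; exact run_lt hbi
  have h7 : J2Cls.rw 32 r (bs i) < 100 := by rw [← run_dec' _ _ hbi]; exact run_lt hbi
  rw [run_append, run_append, run_dec' _ _ hbi, run_dec' _ _ hbi, run_dec' _ _ h6, run_dec' _ _ h7]
  exact h i hi

theorem rw_eq_of_gw {w w' : ℕ} (h : gw (dec 32 w) = gw (dec 32 w')) {x : ℕ} (hx : x < 100) :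
    J2Cls.rw 32 w x = J2Cls.rw 32 w' x := by
  have h1 : pw (dec 32 w) = pw (dec 32 w') := congrArg Subtype.val h
  have h2 := pw_val (dec 32 w) ⟨x, hx⟩
  rw [h1, pw_val] at h2
  rw [← run_dec' _ _ hx, ← run_dec' _ _ hx]
  exact h2.symm

theorem key_eq_of_gw {w w' : ℕ} (h : gw (dec 32 w) = gw (dec 32 w')) : key w = key w' := by
  unfold key
  rw [rw_eq_of_gw h (bs_lt 0 (by norm_num)), rw_eq_of_gw h (bs_lt 1 (by norm_num)), rw_eq_of_gw h (bs_lt 2 (by norm_num)),
    rw_eq_of_gw h (bs_lt 3 (by norm_num))]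

theorem gk_lt {K n : ℕ} (h : ∀ i < n - 1, gk K i < gk K (i + 1)) : ∀ j < n, ∀ i < j, gk K i < gk K j := by
  intro j
  induction j with
  | zero => intro _ i hi; exact absurd hi (Nat.not_lt_zero i)
  | succ j ih =>
    intro hj i hi
    have h1 := h j (by omega)
    rcases Nat.lt_or_ge i j with h2 | h2
    · exact (ih (by omega) i h2).trans h1
    · have : i = j := by omega
      rw [this]
      exact h1

instance finG : Finite G := Nat.finite_of_card_ne_zero (by rw [card_G]; norm_num)

/-- representatives for the orbit of the first base point and elements of its stabilizer -/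
def chkD (r W K n W' K' n' : ℕ) : Bool := band (band (chkC r W K n) (chkC r W' K' n'))
  (band (allB (fun i => Nat.blt (J2Cls.rw 32 (ge W i) 0) (J2Cls.rw 32 (ge W (Nat.succ i)) 0)) (Nat.pred n))
    (allB (fun j => Nat.beq (J2Cls.rw 32 (ge W' j) 0) 0) n'))

theorem spec_chkC {r W K n : ℕ} (h : chkC r W K n = true) :
    (∀ i < n, gw (dec 32 (ge W i)) ∈ Subgroup.centralizer ({gw (dec 32 r)} : Set G)) ∧
      ∀ i < n, ∀ j < n, gw (dec 32 (ge W i)) = gw (dec 32 (ge W j)) → i = j := by
  unfold chkC at h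
  rw [band_eq_true, allB_iff, allB_iff] at h
  obtain ⟨h1, h2⟩ := h
  have hE : ∀ i < n, key (ge W i) = gk K i ∧ gw (dec 32 (ge W i)) * gw (dec 32 r) = gw (dec 32 r) * gw (dec 32 (ge W i)) := by
    intro i hi
    have h3 := h1 i hi
    unfold okE at h3
    rw [band_eq_true, allB_iff] at h3
    exact ⟨Nat.eq_of_beq_eq_true h3.1, gw_eq_of_base fun k hk => Nat.eq_of_beq_eq_true (h3.2 k hk)⟩
  have hlt := gk_lt (K := K) (n := n) fun i hi => by
    have h3 := h2 i (by rw [Nat.pred_eq_sub_one]; exact hi)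
    rwa [Nat.blt_eq] at h3
  refine ⟨fun i hi => Subgroup.mem_centralizer_singleton_iff.2 (hE i hi).2, fun i hi j hj h3 => ?_⟩
  have h4 := key_eq_of_gw h3
  rw [(hE i hi).1, (hE j hj).1] at h4
  rcases Nat.lt_trichotomy i j with h5 | h5 | h5
  · exact absurd h4 (hlt j hj i h5).ne
  · exact h5
  · exact absurd h4 (hlt i hi j h5).ne'

theorem le_cent {r W K n : ℕ} (h : chkC r W K n = true) : n ≤ cent (gw (dec 32 r)) := by
  obtain ⟨h1, h2⟩ := spec_chkC h
  have h3 := Nat.card_le_card_of_injective (fun i : Fin n => (⟨_, h1 i i.2⟩ : Subgroup.centralizer ({gw (dec 32 r)} : Set G)))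
    fun i j hij => Fin.ext (h2 i i.2 j j.2 (congrArg Subtype.val hij))
  rwa [Nat.card_eq_fintype_card, Fintype.card_fin] at h3

theorem le_cent2 {r W K n W' K' n' : ℕ} (h : chkD r W K n W' K' n' = true) : n * n' ≤ cent (gw (dec 32 r)) := by
  obtain ⟨h1, h2⟩ := (band_eq_true _ _).1 h
  rw [band_eq_true] at h1 h2
  obtain ⟨a1, -⟩ := spec_chkC h1.1
  obtain ⟨b1, b2⟩ := spec_chkC h1.2
  have hlt : ∀ j < n, ∀ i < j, J2Cls.rw 32 (ge W i) 0 < J2Cls.rw 32 (ge W j) 0 := by
    intro j
    induction j with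
    | zero => exact fun _ i hi => absurd hi (Nat.not_lt_zero i)
    | succ j ih =>
      intro hj i hi
      have h3 : J2Cls.rw 32 (ge W j) 0 < J2Cls.rw 32 (ge W (j + 1)) 0 :=
        Nat.blt_eq.mp ((allB_iff _ _).1 h2.1 j (Nat.lt_pred_iff.2 hj))
      exact (Nat.lt_succ_iff_lt_or_eq.1 hi).elim (fun h4 => (ih (Nat.lt_of_succ_lt hj) i h4).trans h3) fun h4 => h4 ▸ h3
  have hv : ∀ i j, j < n' → (((gw (dec 32 (ge W i)) * gw (dec 32 (ge W' j))).1 0 : Fin 100) : ℕ) = J2Cls.rw 32 (ge W i) 0 := by
    intro i j hj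
    have h3 : pw (dec 32 (ge W' j)) 0 = 0 :=
      Fin.ext ((rw_eq 32 _ 0).symm.trans (Nat.eq_of_beq_eq_true ((allB_iff _ _).1 h2.2 j hj)))
    show ((pw (dec 32 (ge W i)) (pw (dec 32 (ge W' j)) 0) : Fin 100) : ℕ) = _
    rw [h3]
    exact (rw_eq 32 _ 0).symm
  have h3 := Nat.card_le_card_of_injective (fun p : Fin n × Fin n' =>
    (⟨_, mul_mem (a1 p.1 p.1.2) (b1 p.2 p.2.2)⟩ : Subgroup.centralizer ({gw (dec 32 r)} : Set G))) fun p q hpq => by
      have h4 : gw (dec 32 (ge W p.1)) * gw (dec 32 (ge W' p.2)) = gw (dec 32 (ge W q.1)) * gw (dec 32 (ge W' q.2)) :=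
        congrArg Subtype.val hpq
      have h5 := hv p.1 p.2 p.2.2
      rw [h4, hv _ _ q.2.2] at h5
      have h6 : p.1 = q.1 := Fin.ext ((Nat.lt_trichotomy _ _).elim (fun h7 => absurd h5 (hlt _ q.1.2 _ h7).ne')
        fun h7 => h7.elim id fun h8 => absurd h5 (hlt _ p.1.2 _ h8).ne)
      rw [h6, mul_right_inj] at h4
      exact Prod.ext h6 (Fin.ext (b2 _ p.2.2 _ q.2.2 h4))
  rwa [Nat.card_prod, Nat.card_eq_fintype_card, Nat.card_eq_fintype_card, Fintype.card_fin, Fintype.card_fin] at h3

/-- the orders of the centralizers -/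
def cl : List ℕ := [604800, 1920, 240, 300, 36, 8, 1080, 300, 20, 24, 12, 12, 20, 15, 96, 10, 15, 10, 7, 50, 50]
/-- the orders -/
def ol : List ℕ := [1, 2, 2, 5, 3, 8, 3, 5, 10, 6, 6, 12, 10, 15, 4, 10, 15, 10, 7, 5, 5]
/-- the orders of the centralizers -/
def cv (j : ℕ) : ℕ := cl.getD j 1
/-- the orders -/
def ov (j : ℕ) : ℕ := ol.getD j 1

theorem k1 : chkD (R 1) cw1 ck1 80 cw1b ck1b 24 = true := by decide +kernel
theorem k2 : chkD (R 2) cw2 ck2 60 cw2b ck2b 4 = true := by decide +kernel
theorem k3 : chkD (R 3) cw3 ck3 100 cw3b ck3b 3 = true := by decide +kernel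
theorem k4 : chkC (R 4) cw4 ck4 36 = true := by decide +kernel
theorem k5 : chkC (R 5) cw5 ck5 8 = true := by decide +kernel
theorem k6 : chkD (R 6) cw6 ck6 45 cw6b ck6b 24 = true := by decide +kernel
theorem k7 : chkD (R 7) cw7 ck7 100 cw7b ck7b 3 = true := by decide +kernel
theorem k8 : chkC (R 8) cw8 ck8 20 = true := by decide +kernel
theorem k9 : chkC (R 9) cw9 ck9 24 = true := by decide +kernel
theorem k10 : chkC (R 10) cw10 ck10 12 = true := by decide +kernel
theorem k11 : chkC (R 11) cw11 ck11 12 = true := by decide +kernel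
theorem k12 : chkC (R 12) cw12 ck12 20 = true := by decide +kernel
theorem k13 : chkC (R 13) cw13 ck13 15 = true := by decide +kernel
theorem k14 : chkC (R 14) cw14 ck14 96 = true := by decide +kernel
theorem k15 : chkC (R 15) cw15 ck15 10 = true := by decide +kernel
theorem k16 : chkC (R 16) cw16 ck16 15 = true := by decide +kernel
theorem k17 : chkC (R 17) cw17 ck17 10 = true := by decide +kernel
theorem k18 : chkC (R 18) cw18 ck18 7 = true := by decide +kernel
theorem k19 : chkC (R 19) cw19 ck19 50 = true := by decide +kernel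
theorem k20 : chkC (R 20) cw20 ck20 50 = true := by decide +kernel

theorem cent_one : cent (1 : G) = 604800 := by
  have h : Subgroup.centralizer ({(1 : G)} : Set G) = ⊤ := by
    rw [eq_top_iff]
    intro g _
    rw [Subgroup.mem_centralizer_singleton_iff, mul_one, one_mul]
  unfold cent
  rw [h, Subgroup.card_top, card_G]

theorem rL_zero : gw (rL 0) = 1 := by
  have : rL 0 = [] := by decide +kernel
  rw [this, gw_nil]

theorem le_cent_all (j : Fin 21) : cv j ≤ cent (gw (rL j)) := by
  fin_cases j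
  · change 604800 ≤ cent (gw (rL 0))
    rw [rL_zero, cent_one]
  · exact le_cent2 k1
  · exact le_cent2 k2
  · exact le_cent2 k3
  · exact le_cent k4
  · exact le_cent k5
  · exact le_cent2 k6
  · exact le_cent2 k7
  · exact le_cent k8
  · exact le_cent k9
  · exact le_cent k10
  · exact le_cent k11
  · exact le_cent k12
  · exact le_cent k13
  · exact le_cent k14
  · exact le_cent k15
  · exact le_cent k16
  · exact le_cent k17
  · exact le_cent k18
  · exact le_cent k19
  · exact le_cent k20

theorem classes : (∀ j : Fin 21, cent (gw (rL j)) = cv j) ∧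
    ∀ i j : Fin 21, IsConj (gw (rL i)) (gw (rL j)) → i = j := by
  refine class_eq (G := G) (fun j : Fin 21 => gw (rL j)) (fun j => cv j) ?_ le_cent_all ?_ ?_ ?_
  · decide +kernel
  · rw [card_G]
    decide +kernel
  · intro g
    obtain ⟨j, hj, c, hc⟩ := cover g
    exact ⟨⟨j, hj⟩, (isConj_iff.2 ⟨c, hc⟩).symm⟩
  · rw [card_G]
    decide +kernel

/-! ### orders -/

/-- the powers of a word -/
def it (w m x : ℕ) : ℕ := Nat.rec x (fun _ y => J2Cls.rw 32 w y) m

/-- `w` has order `o` -/
def chkO (w o : ℕ) : Bool := band (allB (fun i => Nat.beq (it w o (bs i)) (bs i)) 4)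
  (allB (fun m => cond (Nat.beq m 0) true (cond (allB (fun i => Nat.beq (it w m (bs i)) (bs i)) 4) false true)) o)

theorem it_eq (w m : ℕ) (x : Fin 100) : it w m x = (((gw (dec 32 w) : G) : Equiv.Perm (Fin 100)) ^ m) x := by
  induction m with
  | zero => rfl
  | succ m ih =>
    change J2Cls.rw 32 w (it w m x) = _
    rw [ih, pow_succ', Equiv.Perm.mul_apply, rw_eq]
    rfl

theorem pow_eq_one_iff {w m : ℕ} : gw (dec 32 w) ^ m = 1 ↔ ∀ i < 4, it w m (bs i) = bs i := by
  constructor
  · intro h i hi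
    have h1 := it_eq w m ⟨bs i, bs_lt i hi⟩
    have h2 : ((gw (dec 32 w) : G) : Equiv.Perm (Fin 100)) ^ m = 1 := by
      rw [← Subgroup.coe_pow, h]
      rfl
    rw [h2] at h1
    exact h1
  · intro h
    apply Subtype.ext
    rw [Subgroup.coe_pow]
    obtain ⟨b0, b1, b2, b3⟩ := bs_val
    have key : ∀ i (hi : i < 4), (((gw (dec 32 w) : G) : Equiv.Perm (Fin 100)) ^ m) ⟨bs i, bs_lt i hi⟩ = ⟨bs i, bs_lt i hi⟩ := by
      intro i hi
      apply Fin.ext
      rw [← it_eq]
      exact h i hi
    refine eq_of_base (pow_mem (gw (dec 32 w)).2 m) (one_mem G) ?_ ?_ ?_ ?_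
    · have := key 0 (by norm_num)
      simp only [b0] at this
      exact this
    · have := key 1 (by norm_num)
      simp only [b1] at this
      exact this
    · have := key 2 (by norm_num)
      simp only [b2] at this
      exact this
    · have := key 3 (by norm_num)
      simp only [b3] at this
      exact this

theorem orderOf_eq {w o : ℕ} (ho : 0 < o) (h : chkO w o = true) : orderOf (gw (dec 32 w)) = o := by
  unfold chkO at h
  rw [band_eq_true, allB_iff, allB_iff] at h
  obtain ⟨h1, h2⟩ := h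
  have h3 : gw (dec 32 w) ^ o = 1 := pow_eq_one_iff.2 fun i hi => Nat.eq_of_beq_eq_true (h1 i hi)
  have h4 := orderOf_dvd_of_pow_eq_one h3
  have h5 := Nat.le_of_dvd ho h4
  have h6 : 0 < orderOf (gw (dec 32 w)) := orderOf_pos _
  by_contra hne
  have h7 := h2 (orderOf (gw (dec 32 w))) (by omega)
  have h8 := pow_eq_one_iff.1 (pow_orderOf_eq_one (gw (dec 32 w)))
  have h9 : allB (fun i => Nat.beq (it w (orderOf (gw (dec 32 w))) (bs i)) (bs i)) 4 = true := by
    rw [allB_iff]
    intro i hi
    rw [h8 i hi, Nat.beq_refl]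
  have h10 : Nat.beq (orderOf (gw (dec 32 w))) 0 = false := by
    cases h11 : Nat.beq (orderOf (gw (dec 32 w))) 0 with
    | true => exact absurd (Nat.eq_of_beq_eq_true h11) (by omega)
    | false => rfl
  rw [h9, h10] at h7
  exact Bool.noConfusion h7

theorem okOrd : allB (fun j => band (Nat.blt 0 (ov j)) (chkO (R j) (ov j))) 21 = true := by decide +kernel

theorem order_r {j : ℕ} (hj : j < 21) : orderOf (gw (rL j)) = ov j := by
  have h := (allB_iff _ _).1 okOrd j hj
  rw [band_eq_true, Nat.blt_eq] at h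
  exact orderOf_eq h.1 h.2

/-- **The type of an element.** -/
theorem type (g : G) : ∃ j : Fin 21, IsConj (gw (rL j)) g ∧ orderOf g = ov j ∧ cent g = cv j := by
  obtain ⟨j, hj, c, hc⟩ := cover g
  have h1 : IsConj (gw (rL j)) g := (isConj_iff.2 ⟨c, hc⟩).symm
  refine ⟨⟨j, hj⟩, h1, ?_, ?_⟩
  · rw [← order_r hj]
    exact (H604.OZ.orderOf_eq_of_conj h1).symm
  · rw [← H672.OZ.cent_eq_of_conj h1]
    exact classes.1 ⟨j, hj⟩

end Cfsg.Agent.H121.OZ.JTwoCls
end
end

-- part: H733/OZ/Good
section
prune_inst 0x10006140542210000018000282004020200001900040000020000002090d00402d410801402001021050028000010008110000400200000000000000000100000000000020400000000010800002080800000000000000000000000000000000000000000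
set_option linter.all false
open scoped Cfsg.Agent.FastGrp

/-!
# One vanishing class: the good primes (T4, helper733, for the sporadic rows of S4842)

`h : One χ x` (helper732): the irreducible character `χ` vanishes exactly on the class of `x`;
`c = cent x = |C(x)|`, `d = charDegree χ`.  Let `r` be a prime, `r ^ n` the `r`-part of `|G|`
and `r ^ n < c`.  Then

* `not_dvd_orderOf` : `r` does not divide `|x|`;
* `normSq_one`      : `|χ g| ^ 2 = 1` for all `g` of order divisible by `r`;
* `not_dvd_cent`    : `r` does not divide `c`;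
* `pow_dvd`         : `r ^ n ∣ d ^ 2 - 1`;
* `cent_le`         : (contrapositive) if `r ^ n` does not divide `d ^ 2 - 1` then `c ≤ r ^ n`.
-/

set_option autoImplicit false

open Cfsg Cfsg.Agent.Characters Cfsg.Agent.H686.CharKit Cfsg.Agent.H732.VZ
open Cfsg.Agent.H604.OZ (cent ne_one one_lt_deg orderOf_eq_of_conj)
open scoped ComplexConjugate

namespace Cfsg.Agent.H733.OZ

universe u

variable {G : Type u} [Group G]

/-- Equality in the inequality of the means: all conjugates have absolute value one. -/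
theorem normSq_eq_one [Finite G] (χ : IrrCharacter G) {g : G} (hg : (χ : G → ℂ) g ≠ 0)
    [NeZero (Nat.card G)]
    (hle : ∑ m : (ZMod (Nat.card G))ˣ,
      Complex.normSq ((χ : G → ℂ) (g ^ (m : ZMod (Nat.card G)).val))
        ≤ (Fintype.card (ZMod (Nat.card G))ˣ : ℝ)) :
    Complex.normSq ((χ : G → ℂ) g) = 1 := by
  classical
  have hχ := Core.isIrr_isCharacter χ.2
  set P : ℂ := ∏ m : (ZMod (Nat.card G))ˣ, (χ : G → ℂ) (g ^ (m : ZMod (Nat.card G)).val) with hP
  have hne : ∀ m : (ZMod (Nat.card G))ˣ, (χ : G → ℂ) (g ^ (m : ZMod (Nat.card G)).val) ≠ 0 := by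
    intro m
    obtain ⟨σ, hσ⟩ := GaloisBasic.exists_ringEquiv_of_coprime (G := G)
      (m := (m : ZMod (Nat.card G)).val) (ZMod.val_coe_unit_coprime m)
    rw [← hσ _ hχ g]
    intro h
    exact hg (by simpa using h)
  have hP0 : P ≠ 0 := Finset.prod_ne_zero_iff.mpr fun m _ => hne m
  have hPint : IsIntegral ℤ P :=
    IsIntegral.prod _ fun m _ => GaloisBasic.isIntegral_apply hχ _
  have hfix : ∀ σ : ℂ ≃+* ℂ, σ P = P := by
    intro σ
    obtain ⟨k, hk, hσ⟩ := GaloisBasic.exists_pow_of_ringEquiv (G := G) σ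
    rw [hP, map_prod]
    conv_rhs => rw [← Equiv.prod_comp (Equiv.mulRight (ZMod.unitOfCoprime k hk))]
    refine Finset.prod_congr rfl fun m _ => ?_
    rw [hσ _ hχ]
    rw [Equiv.coe_mulRight, ← H598.NoZero.pow_unit_mul g pow_card_eq_one' m k hk, ← pow_mul,
      ← pow_mul, mul_comm]
  obtain ⟨q, hq⟩ := GaloisBasic.exists_rat_of_forall_ringEquiv hPint.tower_top hfix
  obtain ⟨k, hk⟩ := GaloisBasic.exists_int_of_isIntegral hPint ⟨q, hq⟩
  have hk0 : k ≠ 0 := by
    rintro rfl
    exact hP0 (by rw [hk]; simp)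
  have hPnorm : 1 ≤ Complex.normSq P := by
    rw [hk, Complex.normSq_intCast]
    have : (1 : ℤ) ≤ k * k := by
      rcases lt_or_gt_of_ne hk0 with h | h <;> nlinarith only [h]
    exact_mod_cast this
  have hpos : ∀ m : (ZMod (Nat.card G))ˣ,
      0 < Complex.normSq ((χ : G → ℂ) (g ^ (m : ZMod (Nat.card G)).val)) := fun m =>
    Complex.normSq_pos.2 (hne m)
  have h2 : 0 ≤ ∑ m : (ZMod (Nat.card G))ˣ,
      Real.log (Complex.normSq ((χ : G → ℂ) (g ^ (m : ZMod (Nat.card G)).val))) := by
    rw [← Real.log_prod (fun m _ => (hpos m).ne'), ← map_prod]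
    exact Real.log_nonneg hPnorm
  have hnn : ∀ m ∈ (Finset.univ : Finset (ZMod (Nat.card G))ˣ), (0 : ℝ)
      ≤ Complex.normSq ((χ : G → ℂ) (g ^ (m : ZMod (Nat.card G)).val)) - 1
        - Real.log (Complex.normSq ((χ : G → ℂ) (g ^ (m : ZMod (Nat.card G)).val))) :=
    fun m _ => by
      have := Real.log_le_sub_one_of_pos (hpos m)
      linarith
  have hsum : ∑ m : (ZMod (Nat.card G))ˣ,
      (Complex.normSq ((χ : G → ℂ) (g ^ (m : ZMod (Nat.card G)).val)) - 1
        - Real.log (Complex.normSq ((χ : G → ℂ) (g ^ (m : ZMod (Nat.card G)).val)))) ≤ 0 := by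
    rw [Finset.sum_sub_distrib, Finset.sum_sub_distrib, Finset.sum_const, nsmul_eq_mul, mul_one,
      Finset.card_univ]
    linarith
  have hzero := (Finset.sum_eq_zero_iff_of_nonneg hnn).1
    (le_antisymm hsum (Finset.sum_nonneg hnn)) 1 (Finset.mem_univ _)
  have hone : g ^ ((1 : (ZMod (Nat.card G))ˣ) : ZMod (Nat.card G)).val = g := by
    rcases Nat.lt_or_ge 1 (Nat.card G) with h3 | h3
    · have : Fact (1 < Nat.card G) := ⟨h3⟩
      rw [Units.val_one, ZMod.val_one, pow_one]
    · have : Subsingleton G := Finite.card_le_one_iff_subsingleton.1 h3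
      exact Subsingleton.elim _ _
  rw [hone] at hzero
  by_contra hne1
  have hpos1 : 0 < Complex.normSq ((χ : G → ℂ) g) := Complex.normSq_pos.2 hg
  have := Real.log_lt_sub_one_of_pos hpos1 hne1
  linarith

section Fin

variable [Fintype G] [DecidableEq G]

/-- An irreducible character without zeros on a Galois-stable set over which the mean of the
squared absolute values is at most one: all absolute values are one. -/
theorem normSq_eq_one_of_sum (χ : IrrCharacter G) {Y : Finset G} (hY : H695.OneZero.Gal Y)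
    (h0 : ∀ g ∈ Y, (χ : G → ℂ) g ≠ 0)
    (hs : ∑ g ∈ Y, Complex.normSq ((χ : G → ℂ) g) ≤ Y.card) {g : G} (hg : g ∈ Y) :
    Complex.normSq ((χ : G → ℂ) g) = 1 := by
  have : NeZero (Nat.card G) := ⟨Nat.card_pos.ne'⟩
  refine normSq_eq_one χ (h0 g hg) ?_
  by_contra hlt
  rw [not_le] at hlt
  have h1 : ∑ g ∈ Y, (Fintype.card (ZMod (Nat.card G))ˣ : ℝ)
      < ∑ g ∈ Y, ∑ m : (ZMod (Nat.card G))ˣ,
        Complex.normSq ((χ : G → ℂ) (g ^ (m : ZMod (Nat.card G)).val)) :=
    Finset.sum_lt_sum (fun g hg => H598.NoZero.le_sum_norm_sq χ (h0 g hg)) ⟨g, hg, hlt⟩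
  rw [Finset.sum_const, nsmul_eq_mul, Finset.sum_comm,
    Finset.sum_congr rfl fun (m : (ZMod (Nat.card G))ˣ) _ =>
      hY.sum_pow (ZMod.val_coe_unit_coprime m) fun g => Complex.normSq ((χ : G → ℂ) g),
    Finset.sum_const, nsmul_eq_mul, Finset.card_univ] at h1
  have hpos : (0 : ℝ) < Fintype.card (ZMod (Nat.card G))ˣ := by exact_mod_cast Fintype.card_pos
  nlinarith only [hs, h1]

/-- The elements of order prime to `r`. -/
noncomputable def reg (G : Type u) [Group G] [Fintype G] (r : ℕ) : Finset G :=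
  Finset.univ.filter fun g : G => ¬ r ∣ orderOf g

/-- The elements of order divisible by `r`. -/
noncomputable def sing (G : Type u) [Group G] [Fintype G] (r : ℕ) : Finset G :=
  Finset.univ.filter fun g : G => r ∣ orderOf g

omit [DecidableEq G] in
theorem mem_reg {r : ℕ} {g : G} : g ∈ reg G r ↔ ¬ r ∣ orderOf g := by simp [reg]

omit [DecidableEq G] in
theorem mem_sing {r : ℕ} {g : G} : g ∈ sing G r ↔ r ∣ orderOf g := by simp [sing]

omit [Fintype G] [DecidableEq G] in
theorem orderOf_pow_of_coprime {k : ℕ} (hk : k.Coprime (Nat.card G)) (g : G) :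
    orderOf (g ^ k) = orderOf g :=
  (Nat.Coprime.orderOf_pow (Nat.Coprime.coprime_dvd_left (orderOf_dvd_natCard g) hk.symm))

omit [DecidableEq G] in
theorem gal_reg (r : ℕ) : H695.OneZero.Gal (reg G r) := fun g hg k hk => by
  rw [mem_reg] at hg ⊢
  rwa [orderOf_pow_of_coprime hk]

omit [DecidableEq G] in
theorem gal_sing (r : ℕ) : H695.OneZero.Gal (sing G r) := fun g hg k hk => by
  rw [mem_sing] at hg ⊢
  rwa [orderOf_pow_of_coprime hk]

omit [DecidableEq G] in
/-- `∑ |χ g| ^ 2` over the elements of order prime to `r` is divisible by the `r'`-part of `|G|`. -/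
theorem sum_reg (χ : IrrCharacter G) {r n : ℕ} (hr : r.Prime) (h1 : r ^ n ∣ Nat.card G)
    (h2 : ¬ r ^ (n + 1) ∣ Nat.card G) :
    ∃ k : ℤ, (r ^ n : ℝ) * ∑ g ∈ reg G r, Complex.normSq ((χ : G → ℂ) g) = Nat.card G * k := by
  classical
  have : Fact r.Prime := ⟨hr⟩
  have hn : (Nat.card G).factorization r = n := by
    have hN : Nat.card G ≠ 0 := Nat.card_pos.ne'
    have h3 := (hr.pow_dvd_iff_le_factorization hN).1 h1
    have h4 := (hr.pow_dvd_iff_le_factorization hN).not.1 h2
    omega
  have h3 := S0961.result r χ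
  rw [hn] at h3
  obtain ⟨a, b, ha, hb, hab⟩ := Core.isGeneralizedCharacter_def.1 h3
  obtain ⟨m1, hm1⟩ := Core.classInner_isNat ha (Core.isIrr_isCharacter χ.2)
  obtain ⟨m2, hm2⟩ := Core.classInner_isNat hb (Core.isIrr_isCharacter χ.2)
  have h4 : classInner (fun x : G => if r ∣ orderOf x then 0
      else ((r ^ n : ℕ) : ℂ) * (χ : G → ℂ) x) (χ : G → ℂ) = (m1 : ℂ) - m2 := by
    rw [hab, Core.classInner_sub_left, hm1, hm2]
  unfold classInner at h4
  have hG : (Nat.card G : ℂ) ≠ 0 := by exact_mod_cast Nat.card_pos.ne'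
  have h5 : ∑ g : G, (if r ∣ orderOf g then 0 else ((r ^ n : ℕ) : ℂ) * (χ : G → ℂ) g)
      * (starRingEnd ℂ) ((χ : G → ℂ) g) = (Nat.card G : ℂ) * ((m1 : ℂ) - m2) := by
    rw [← h4]
    field_simp
  refine ⟨(m1 : ℤ) - m2, ?_⟩
  have h6 : (((r ^ n : ℝ) * ∑ g ∈ reg G r, Complex.normSq ((χ : G → ℂ) g) : ℝ) : ℂ)
      = (((Nat.card G * (((m1 : ℤ) - m2 : ℤ) : ℝ)) : ℝ) : ℂ) := by
    push_cast
    rw [← h5, reg, Finset.sum_filter, Finset.mul_sum]
    refine Finset.sum_congr rfl fun g _ => ?_
    by_cases hg : r ∣ orderOf g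
    · simp [hg]
    · rw [if_pos hg, if_neg hg, mul_assoc, Complex.mul_conj]
      push_cast
      ring
  exact_mod_cast h6

omit [DecidableEq G] in
/-- The excess over the elements of order prime to `r` is divisible by the `r'`-part of `|G|`. -/
theorem sum_reg_sub (χ : IrrCharacter G) {r n : ℕ} (hr : r.Prime) (h1 : r ^ n ∣ Nat.card G)
    (h2 : ¬ r ^ (n + 1) ∣ Nat.card G) :
    ∃ k : ℤ, (r ^ n : ℝ) * ((∑ g ∈ reg G r, Complex.normSq ((χ : G → ℂ) g)) - (reg G r).card)
      = Nat.card G * k := by
  obtain ⟨k1, hk1⟩ := sum_reg χ hr h1 h2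
  obtain ⟨k2, hk2⟩ := sum_reg (⟨1, Core.isIrr_one⟩ : IrrCharacter G) hr h1 h2
  refine ⟨k1 - k2, ?_⟩
  have h3 : ∑ g ∈ reg G r, Complex.normSq (((⟨1, Core.isIrr_one⟩ : IrrCharacter G) : G → ℂ) g)
      = (reg G r).card := by
    rw [Finset.card_eq_sum_ones, Nat.cast_sum]
    exact Finset.sum_congr rfl fun g _ => by simp
  rw [h3] at hk2
  push_cast
  rw [mul_sub, hk1, hk2]
  ring

end Fin

variable [Finite G] {χ : IrrCharacter G} {x : G}

/-- The common part of `not_dvd_orderOf` and `normSq_one`. -/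
theorem good (h : _root_.Cfsg.Agent.H732.VZ.One χ x) {r n : ℕ} (hr : r.Prime) (h1 : r ^ n ∣ Nat.card G)
    (h2 : ¬ r ^ (n + 1) ∣ Nat.card G) (hc : r ^ n < cent x) :
    ¬ r ∣ orderOf x ∧ ∀ g : G, r ∣ orderOf g → Complex.normSq ((χ : G → ℂ) g) = 1 := by
  classical
  have := Fintype.ofFinite G
  obtain ⟨k, hk⟩ := sum_reg_sub χ hr h1 h2
  set E : ℝ := (∑ g ∈ reg G r, Complex.normSq ((χ : G → ℂ) g)) - (reg G r).card with hE
  set Z : Finset G := Finset.univ.filter fun g : G => (χ : G → ℂ) g = 0 with hZ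
  have hZc : Z.card * cent x = Nat.card G := card_zeros h
  have hZpos : 0 < Z.card := Finset.card_pos.2 ⟨x, by rw [hZ, Finset.mem_filter]; exact ⟨Finset.mem_univ _, h.zero⟩⟩
  have hNpos : (0 : ℝ) < Nat.card G := by exact_mod_cast Nat.card_pos
  have hrpos : (0 : ℝ) < (r : ℝ) ^ n := by
    have := hr.pos
    positivity
  -- `r ^ n * |Z| < N`
  have hlt : (r : ℝ) ^ n * Z.card < Nat.card G := by
    have h3 : Z.card * r ^ n < Z.card * cent x := Nat.mul_lt_mul_of_pos_left hc hZpos
    rw [hZc] at h3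
    have h4 : r ^ n * Z.card < Nat.card G := by rwa [mul_comm]
    exact_mod_cast h4
  have hcomp : (reg G r)ᶜ = sing G r := by
    ext g
    rw [Finset.mem_compl, mem_reg, mem_sing, not_not]
  have htot := H695.OneZero.sum_normSq χ
  rw [← Finset.sum_add_sum_compl (reg G r), hcomp] at htot
  have hcard : ((reg G r).card : ℝ) + (sing G r).card = Fintype.card G := by
    rw [← Nat.cast_add, ← hcomp, Finset.card_add_card_compl]
  by_cases hx : r ∣ orderOf x
  · -- the zeros are singular
    exfalso
    have hreg0 : ∀ g ∈ reg G r, (χ : G → ℂ) g ≠ 0 := by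
      intro g hg h0
      rw [mem_reg, ← orderOf_eq_of_conj (h.uniq g h0)] at hg
      exact hg hx
    have hup := H695.OneZero.sum_le χ (gal_reg r) hreg0
    -- strictly positive
    have h1mem : (1 : G) ∈ reg G r := by
      rw [mem_reg, orderOf_one]
      exact fun h => hr.one_lt.ne' (Nat.dvd_one.1 h)
    have hgal1 : H695.OneZero.Gal ((reg G r).erase 1) := by
      intro g hg k hk
      rw [Finset.mem_erase] at hg ⊢
      refine ⟨fun h1 => hg.1 ?_, gal_reg r g hg.2 k hk⟩
      rw [← orderOf_eq_one_iff, ← orderOf_pow_of_coprime hk, h1, orderOf_one]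
    have hlow := H695.OneZero.card_le χ hgal1 fun g hg => hreg0 g (Finset.mem_of_mem_erase hg)
    have hsplit := Finset.add_sum_erase (reg G r)
      (fun g => Complex.normSq ((χ : G → ℂ) g)) h1mem
    have hce : (((reg G r).erase 1).card : ℝ) + 1 = (reg G r).card := by
      have := Finset.card_erase_add_one h1mem
      exact_mod_cast this
    have hd := one_lt_deg h
    have hd2 : (1 : ℝ) < Complex.normSq ((χ : G → ℂ) 1) := by
      rw [← charDegree_irr χ, Complex.normSq_natCast]
      have : (1 : ℝ) < charDegree (χ : G → ℂ) := by exact_mod_cast hd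
      nlinarith only [this]
    have hEpos : 0 < E := by
      rw [hE, ← hsplit]
      linarith only [hlow, hce, hd2]
    have hEle : E ≤ Z.card := by
      rw [hE]
      have : (Z.card : ℝ) = ((Finset.univ.filter fun g : G => (χ : G → ℂ) g = 0).card : ℝ) := rfl
      linarith only [hup]
    have hk1 : (0 : ℝ) < Nat.card G * (k : ℝ) := by rw [← hk]; (clear * - hrpos hEpos; positivity)
    have hk2 : Nat.card G * (k : ℝ) < Nat.card G := by
      rw [← hk]
      exact lt_of_le_of_lt (mul_le_mul_of_nonneg_left hEle hrpos.le) hlt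
    have hk3 : (0 : ℝ) < k := by
      by_contra hcon
      rw [not_lt] at hcon
      nlinarith only [hk1, hcon]
    have hk4 : (k : ℝ) < 1 := by
      by_contra hcon
      rw [not_lt] at hcon
      nlinarith only [hk2, hcon]
    have hk5 : 0 < k := by exact_mod_cast hk3
    have hk6 : k < 1 := by exact_mod_cast hk4
    omega
  · refine ⟨hx, ?_⟩
    have hsing0 : ∀ g ∈ sing G r, (χ : G → ℂ) g ≠ 0 := by
      intro g hg h0
      rw [mem_sing, ← orderOf_eq_of_conj (h.uniq g h0)] at hg
      exact hx hg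
    have hup := H695.OneZero.sum_le χ (gal_sing r) hsing0
    have hlow := H695.OneZero.card_le χ (gal_sing r) hsing0
    have hEle : E ≤ 0 := by
      rw [hE]
      linarith only [htot, hcard, hlow]
    have hEge : -(Z.card : ℝ) ≤ E := by
      rw [hE]
      have : (Z.card : ℝ) = ((Finset.univ.filter fun g : G => (χ : G → ℂ) g = 0).card : ℝ) := rfl
      linarith only [htot, hcard, hup]
    have hk1 : Nat.card G * (k : ℝ) ≤ 0 := by
      rw [← hk]
      exact mul_nonpos_of_nonneg_of_nonpos hrpos.le hEle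
    have hk2 : -(Nat.card G : ℝ) < Nat.card G * (k : ℝ) := by
      rw [← hk]
      have : (r : ℝ) ^ n * (-(Z.card : ℝ)) ≤ (r : ℝ) ^ n * E :=
        mul_le_mul_of_nonneg_left hEge hrpos.le
      linarith only [hlt, this]
    have hk3 : (k : ℝ) ≤ 0 := by
      by_contra hcon
      rw [not_le] at hcon
      nlinarith only [hNpos, hk1, hcon]
    have hk4 : (-1 : ℝ) < k := by
      by_contra hcon
      rw [not_lt] at hcon
      nlinarith only [hk2, hcon]
    have hk5 : k ≤ 0 := by exact_mod_cast hk3
    have hk6 : -1 < k := by exact_mod_cast hk4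
    have hk7 : k = 0 := by omega
    have hE0 : E = 0 := by
      rw [hk7, Int.cast_zero, mul_zero] at hk
      exact (mul_eq_zero.1 hk).resolve_left hrpos.ne'
    intro g hg
    refine normSq_eq_one_of_sum χ (gal_sing r) hsing0 ?_ (mem_sing.2 hg)
    rw [hE] at hE0
    linarith only [htot, hcard, hE0]

/-- **T4.** -/
theorem not_dvd_orderOf (h : _root_.Cfsg.Agent.H732.VZ.One χ x) {r n : ℕ} (hr : r.Prime) (h1 : r ^ n ∣ Nat.card G)
    (h2 : ¬ r ^ (n + 1) ∣ Nat.card G) (hc : r ^ n < cent x) : ¬ r ∣ orderOf x :=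
  (good h hr h1 h2 hc).1

/-- **T4.** -/
theorem normSq_one (h : _root_.Cfsg.Agent.H732.VZ.One χ x) {r n : ℕ} (hr : r.Prime) (h1 : r ^ n ∣ Nat.card G)
    (h2 : ¬ r ^ (n + 1) ∣ Nat.card G) (hc : r ^ n < cent x) {g : G} (hg : r ∣ orderOf g) :
    Complex.normSq ((χ : G → ℂ) g) = 1 :=
  (good h hr h1 h2 hc).2 g hg

/-- **T4.** -/
theorem pow_dvd (h : _root_.Cfsg.Agent.H732.VZ.One χ x) {r n : ℕ} (hr : r.Prime) (h1 : r ^ n ∣ Nat.card G)
    (h2 : ¬ r ^ (n + 1) ∣ Nat.card G) (hc : r ^ n < cent x) :
    r ^ n ∣ charDegree (χ : G → ℂ) ^ 2 - 1 := by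
  classical
  have : Fact r.Prime := ⟨hr⟩
  obtain ⟨P⟩ : Nonempty (Sylow r G) := inferInstance
  have hP : r ^ n ∣ Nat.card (P : Subgroup G) := P.pow_dvd_card_of_pow_dvd_card h1
  have hP' : Nat.card (P : Subgroup G) ∣ r ^ n := by
    obtain ⟨m, hm⟩ := IsPGroup.iff_card.1 P.2
    rw [hm]
    refine pow_dvd_pow r ?_
    by_contra hlt
    exact h2 ((pow_dvd_pow r (by omega : n + 1 ≤ m)).trans (hm ▸ Subgroup.card_subgroup_dvd_card _))
  have hPc : Nat.card (P : Subgroup G) = r ^ n := Nat.dvd_antisymm hP' hP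
  have := Fintype.ofFinite (P : Subgroup G)
  have hres : IsCharacter (P : Subgroup G) (fun y : (P : Subgroup G) => (χ : G → ℂ) y) :=
    Core.isCharacter_comp (P : Subgroup G).subtype (Core.isIrr_isCharacter χ.2)
  obtain ⟨m, hm⟩ := Core.classInner_isNat hres hres
  unfold classInner at hm
  have hPC : (Nat.card (P : Subgroup G) : ℂ) ≠ 0 := by exact_mod_cast Nat.card_pos.ne'
  have h3 : ∑ y : (P : Subgroup G), (χ : G → ℂ) y * (starRingEnd ℂ) ((χ : G → ℂ) y)
      = (Nat.card (P : Subgroup G) : ℂ) * m := by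
    rw [← hm]
    field_simp
  have h4 : ∀ y : (P : Subgroup G), y ≠ 1 → (χ : G → ℂ) y * (starRingEnd ℂ) ((χ : G → ℂ) y) = 1 := by
    intro y hy
    rw [Complex.mul_conj, normSq_one h hr h1 h2 hc, Complex.ofReal_one]
    obtain ⟨k, hk⟩ := IsPGroup.iff_orderOf.1 P.2 y
    have hk0 : k ≠ 0 := by
      rintro rfl
      rw [pow_zero, orderOf_eq_one_iff] at hk
      exact hy hk
    rw [Subgroup.orderOf_coe, hk]
    exact dvd_pow_self r hk0
  rw [← Finset.add_sum_erase _ _ (Finset.mem_univ (1 : (P : Subgroup G))),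
    Finset.sum_congr rfl fun y hy => h4 y (Finset.ne_of_mem_erase hy), Finset.sum_const,
    nsmul_eq_mul, mul_one, Finset.card_erase_of_mem (Finset.mem_univ _), Finset.card_univ,
    ← Nat.card_eq_fintype_card, hPc, OneMemClass.coe_one, ← charDegree_irr χ, Complex.conj_natCast] at h3
  have hd := one_lt_deg h
  have hrn : 1 ≤ r ^ n := Nat.one_le_pow _ _ hr.pos
  have h5 : charDegree (χ : G → ℂ) * charDegree (χ : G → ℂ) + (r ^ n - 1) = r ^ n * m := by
    exact_mod_cast h3
  have h6 : 1 ≤ charDegree (χ : G → ℂ) ^ 2 := Nat.one_le_pow _ _ (by omega)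
  have h7 : charDegree (χ : G → ℂ) ^ 2 - 1 + r ^ n = r ^ n * m := by
    rw [← h5, sq] at *
    omega
  exact (Nat.dvd_add_left (dvd_refl _)).1 (h7 ▸ Dvd.intro _ rfl)

/-- **T4**, contrapositive form. -/
theorem cent_le (h : _root_.Cfsg.Agent.H732.VZ.One χ x) {r n : ℕ} (hr : r.Prime) (h1 : r ^ n ∣ Nat.card G)
    (h2 : ¬ r ^ (n + 1) ∣ Nat.card G) (hd : ¬ r ^ n ∣ charDegree (χ : G → ℂ) ^ 2 - 1) :
    cent x ≤ r ^ n := by
  by_contra hlt
  exact hd (pow_dvd h hr h1 h2 (by omega))

end Cfsg.Agent.H733.OZ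

private theorem dce_2ebf185d02dd : _root_.True := by
  try have : _root_.True := by simp only [_root_.Cfsg.Agent.H733.OZ.sing.eq_1]
  try have : _root_.True := by simp only [_root_.Cfsg.Agent.H733.OZ.reg.eq_1]
  exact _root_.True.intro
end

-- part: H672/OZ/Sieve
section
set_option linter.all false
open scoped Cfsg.Agent.FastGrp

/-!
# One vanishing class: the kernel sieve with T4 (helper672, for the sporadic rows of S4842)

`h : One χ x`, `c = |C(x)|`, `d = χ(1)`, `N = |G|`, `l` the factorization of `N` (prime, exponent).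

* `okd4` : `okd` and T4 (helper733): `|G|_r ∣ d² - 1` or `c ≤ |G|_r` (with `c0 ≤ c`, and `c = |G|_r'` if `|G|_r' ∣ d`);
* `mem_of_sieve4` : the degree is in the list `D` of the divisors which pass, by `decide +kernel`;
* `iso_mod_of` : the residue of the degree modulo an isolated prime, from one element `z`;
* `two_mod_of` : the same for `|C(z)| = 2 p`.

See also `JThree.cent_of_val` : `χ y = v`, `v` a nonzero integer: `c (v² - 1) ≤ |C(y)|`.
-/

set_option autoImplicit false

open Cfsg Cfsg.Agent.Characters Cfsg.Agent.H686.CharKit Cfsg.Agent.H732.VZ Cfsg.Agent.H604.OZ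

namespace Cfsg.Agent.H672.OZ

universe u

variable {G : Type u} [Group G] [Finite G] {χ : IrrCharacter G} {x : G}

/-- T4 with the lower bound `c0` -/
def okT4 (c0 d : ℕ) (y : ℕ × ℕ) : Bool := Nat.ble c0 (y.1 ^ y.2) || Nat.beq ((d * d - 1) % y.1 ^ y.2) 0

/-- **The test of the degree with T4.** -/
def okd4 (N c0 : ℕ) (l : List (ℕ × ℕ)) (iso : List ℕ) (d : ℕ) : Bool :=
  okd N c0 l iso d && (l.all (okT4 c0 d) && l.all fun y => !(isFull d y) || l.all (okT4 (y.1 ^ y.2) d))

theorem okd4_of (h : One χ x) {N c0 : ℕ} (hN : Nat.card G = N) {l : List (ℕ × ℕ)}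
    (hl : Cfsg.Agent.H417.Divs.val l = N)
    (hp : ∀ y ∈ l, y.1.Prime) (he : ∀ y ∈ l, y.2 ≠ 0 ∧ ¬ y.1 ^ (y.2 + 1) ∣ N) (hc : c0 ≤ cent x) {iso : List ℕ}
    (hiso : ∀ r ∈ iso, charDegree (χ : G → ℂ) % r = 0 ∨ charDegree (χ : G → ℂ) % r = 1 ∨
      charDegree (χ : G → ℂ) % r = r - 1) :
    okd4 N c0 l iso (charDegree (χ : G → ℂ)) = true := by
  rw [okd4, okd_of h hN hl hp he hc hiso, Bool.true_and, Bool.and_eq_true]
  set d := charDegree (χ : G → ℂ) with hdd
  have hdl : ∀ y ∈ l, y.1 ^ y.2 ∣ N := by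
    intro y hy
    rw [← hl, Cfsg.Agent.H417.Divs.val]
    exact List.dvd_prod (List.mem_map.2 ⟨y, hy, rfl⟩)
  have key : ∀ c : ℕ, c ≤ cent x → l.all (okT4 c d) = true := by
    intro c hcx
    rw [List.all_eq_true]
    intro y hy
    unfold okT4
    rw [Bool.or_eq_true]
    by_cases h1 : y.1 ^ y.2 ∣ d ^ 2 - 1
    · right
      rw [← pow_two, Nat.mod_eq_zero_of_dvd h1]
      rfl
    · left
      have h2 := H733.OZ.cent_le h (hp y hy) (by rw [hN]; exact hdl y hy) (by rw [hN]; exact (he y hy).2) h1
      rw [Nat.ble_eq]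
      exact hcx.trans h2
  refine ⟨key c0 hc, ?_⟩
  rw [List.all_eq_true]
  intro y hy
  by_cases hyf : isFull d y = true
  · rw [hyf, Bool.not_true, Bool.false_or]
    have h3 : y.1 ^ y.2 ∣ d := Nat.dvd_of_mod_eq_zero (Nat.eq_of_beq_eq_true hyf)
    exact key _ (full h (hp y hy) (he y hy).1 (by rw [hN]; exact hdl y hy) (by rw [hN]; exact (he y hy).2) h3).2.1.ge
  · rw [Bool.not_eq_true] at hyf
    rw [hyf]; rfl

/-- **The sieve with T4**: the list `D` of the divisors of `N` which pass the test. -/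
theorem mem_of_sieve4 (h : One χ x) {N c0 : ℕ} (hN : Nat.card G = N) {l : List (ℕ × ℕ)}
    (hl : Cfsg.Agent.H417.Divs.val l = N)
    (hp : ∀ y ∈ l, y.1.Prime) (he : ∀ y ∈ l, y.2 ≠ 0 ∧ ¬ y.1 ^ (y.2 + 1) ∣ N) (hc : c0 ≤ cent x) {iso : List ℕ}
    (hiso : ∀ r ∈ iso, charDegree (χ : G → ℂ) % r = 0 ∨ charDegree (χ : G → ℂ) % r = 1 ∨
      charDegree (χ : G → ℂ) % r = r - 1) {D : List ℕ}
    (hD : ((Cfsg.Agent.H417.Divs.divs l).all fun d => !(okd4 N c0 l iso d) || D.contains d) = true) :
    charDegree (χ : G → ℂ) ∈ D := by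
  have h1 := Cfsg.Agent.H417.Divs.all_divs l hp hl hD (d := charDegree (χ : G → ℂ)) (by rw [← hN]; exact deg_dvd χ)
  rw [okd4_of h hN hl hp he hc hiso, Bool.not_true, Bool.false_or, List.contains_iff_mem] at h1
  exact h1

/-- It is enough to test the divisors with the lowered exponents. -/
theorem LowExp.all_of4 {N c0 : ℕ} {l : List (ℕ × ℕ)} {iso : List ℕ} {g : ℕ → Bool}
    (h : ((Cfsg.Agent.H417.Divs.divs (LowExp.red N l)).all fun d => !(okd4 N c0 l iso d) || g d) = true) :
    ((Cfsg.Agent.H417.Divs.divs l).all fun d => !(okd4 N c0 l iso d) || g d) = true := by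
  rw [List.all_eq_true] at h ⊢
  intro d hd
  cases h1 : okd4 N c0 l iso d
  · rfl
  · have h2 := h1
    rw [okd4, okd, Bool.and_eq_true, Bool.and_eq_true, Bool.and_eq_true, Bool.and_eq_true, Bool.and_eq_true] at h2
    have h3 := h d (LowExp.mem_red l hd (List.all_eq_true.1 h2.1.2.2.2.1))
    rwa [h1] at h3

/-- **T4 for a concrete degree**: `c ≤ r ^ n`. -/
theorem cent_le_of (h : One χ x) {N r n d : ℕ} (hN : Nat.card G = N) (hr : r.Prime) (hd : charDegree (χ : G → ℂ) = d)
    (h1 : r ^ n ∣ N) (h2 : ¬ r ^ (n + 1) ∣ N) (h3 : ¬ r ^ n ∣ d ^ 2 - 1) : cent x ≤ r ^ n :=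
  H733.OZ.cent_le h hr (by rw [hN]; exact h1) (by rw [hN]; exact h2) (by rw [hd]; exact h3)

/-- The centralizer of an element of order `p` is not smaller than `p`. -/
theorem card_cent_eq {z : G} {p : ℕ} (hz : orderOf z = p)
    (hC : Nat.card (Subgroup.centralizer ({z} : Set G)) ≤ p) :
    Nat.card (Subgroup.centralizer ({z} : Set G)) = p := by
  refine le_antisymm hC ?_
  rw [← hz]
  exact Nat.le_of_dvd Nat.card_pos (Subgroup.orderOf_dvd_natCard _ (mem_cent.2 rfl))

/-- **The residue modulo an isolated prime** (helper849's T5), from one element `z` of order `p`. -/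
theorem iso_mod_of [IsSimpleGroup G] (h : One χ x) {p : ℕ} (hp : p.Prime) (h7 : 7 ≤ p) (hsq : ¬ p ^ 2 ∣ Nat.card G)
    (hG : Nat.card G ≠ p) {z : G} (hz : orderOf z = p)
    (hC : Nat.card (Subgroup.centralizer ({z} : Set G)) ≤ p) (h4 : 4 ≤ cent x) :
    charDegree (χ : G → ℂ) % p = 0 ∨ charDegree (χ : G → ℂ) % p = 1 ∨ charDegree (χ : G → ℂ) % p = p - 1 := by
  rcases H849.OZ.iso hp h7 hsq hG hz (card_cent_eq hz hC) h h4 with h1 | h1 | h1
  · exact Or.inr (Or.inl h1)
  · exact Or.inr (Or.inr h1)
  · exact Or.inl (Nat.mod_eq_zero_of_dvd h1.1)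

/-- **The residue modulo a prime `p` with `|C(z)| = 2 p`** (helper849's T5): `x` is `p`-regular, `d ≡ ± 1`. -/
theorem two_mod_of [IsSimpleGroup G] (h : One χ x) {p : ℕ} (hp : p.Prime) (h7 : 7 ≤ p) (hd : p ∣ Nat.card G)
    (hsq : ¬ p ^ 2 ∣ Nat.card G) (hG : Nat.card G ≠ p) {z : G} (hz : orderOf z = p)
    (hC : Nat.card (Subgroup.centralizer ({z} : Set G)) = 2 * p) (h4 : 4 ≤ cent x) :
    charDegree (χ : G → ℂ) % p = 1 ∨ charDegree (χ : G → ℂ) % p = p - 1 := by
  have hx : ¬ p ∣ orderOf x := by
    rcases Nat.lt_or_ge p (cent x) with h1 | h1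
    · exact H733.OZ.not_dvd_orderOf h (r := p) (n := 1) hp (by rw [pow_one]; exact hd) hsq (by rw [pow_one]; exact h1)
    · exact H849.OZ.not_dvd_of_le hp hsq hz (by rw [hC]; have := hp.pos; omega) h1
  exact H849.OZ.mod_of_two hp h7 hsq hG hz hC h hx h4

end Cfsg.Agent.H672.OZ

private theorem dce_8ff211371b51 : _root_.True := by
  try have : _root_.True := by simp only [_root_.Cfsg.Agent.H672.OZ.okd4.eq_1]
  exact _root_.True.intro
end

-- part: H604/OZ/Sec
section
prune_inst 0x22000204070a2100000180000220000200000000000400400e402010609094040284108010a2005021000088000000000000000400000000000000000000000000028000080080008400000000000400000000000000000000000000000000000004010000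
set_option linter.all false
open scoped Cfsg.Agent.FastGrp

/-!
# One vanishing class: `r`-sections (T6, helper604, for the sporadic rows of S4842)

`sec y r` : the elements `w u`, `w` conjugate to `y`, `u` of order prime to `r` commuting with `w` (the `r`-section of the
`r`-element `y`).  With `|C(y)|_r = r ^ m`, `y` rational:

* `sum_sec_int`  : `r ^ m * ∑ |χ| ^ 2 = |G| * k` over the section, `k` an integer;
* `sec_lower`    : `r ∣ χ(1)`, `χ` nonzero on the section: `|section| + |G| / r ^ m ≤ ∑ |χ| ^ 2`;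
* `excess_sums`  : disjoint Galois-stable sets, the sum over `Y i` at least `|Y i| + e i`: `c ∑ e i ≤ |G|`;
* `two_secs`     : two disjoint sections: `c (1 / |C(y)|_r + 1 / |C(z)|_s) ≤ 1`.
-/

set_option autoImplicit false
set_option linter.unusedSectionVars false

open Cfsg Cfsg.Agent.Characters Cfsg.Agent.H686.CharKit Cfsg.Agent.H732.VZ Cfsg.Agent.H733.OZ

namespace Cfsg.Agent.H604.OZ

universe u

section shift

variable {C : Type u} [Group C] [Fintype C]

/-- the sum of a character over the regular elements -/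
theorem sum_reg_irr (μ : IrrCharacter C) {r n : ℕ} (hr : r.Prime) (h1 : r ^ n ∣ Nat.card C)
    (h2 : ¬ r ^ (n + 1) ∣ Nat.card C) :
    ∃ k : ℤ, (r ^ n : ℂ) * ∑ g ∈ reg C r, (μ : C → ℂ) g = Nat.card C * k := by
  classical
  have : Fact r.Prime := ⟨hr⟩
  have hn : (Nat.card C).factorization r = n := by
    have hN : Nat.card C ≠ 0 := Nat.card_pos.ne'
    have h3 := (hr.pow_dvd_iff_le_factorization hN).1 h1
    have h4 := (hr.pow_dvd_iff_le_factorization hN).not.1 h2
    omega
  have h3 := S0961.result r μ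
  rw [hn] at h3
  obtain ⟨a, b, ha, hb, hab⟩ := Core.isGeneralizedCharacter_def.1 h3
  obtain ⟨m1, hm1⟩ := Core.classInner_isNat ha (Core.isCharacter_one (G := C))
  obtain ⟨m2, hm2⟩ := Core.classInner_isNat hb (Core.isCharacter_one (G := C))
  have h4 : classInner (fun x : C => if r ∣ orderOf x then 0
      else ((r ^ n : ℕ) : ℂ) * (μ : C → ℂ) x) (1 : C → ℂ) = (m1 : ℂ) - m2 := by
    rw [hab, Core.classInner_sub_left, hm1, hm2]
  unfold classInner at h4
  have hG : (Nat.card C : ℂ) ≠ 0 := by exact_mod_cast Nat.card_pos.ne'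
  have h5 : ∑ g : C, (if r ∣ orderOf g then 0 else ((r ^ n : ℕ) : ℂ) * (μ : C → ℂ) g)
      * (starRingEnd ℂ) ((1 : C → ℂ) g) = (Nat.card C : ℂ) * ((m1 : ℂ) - m2) := by
    rw [← h4]
    field_simp
  refine ⟨(m1 : ℤ) - m2, ?_⟩
  push_cast
  rw [← h5, reg, Finset.sum_filter, Finset.mul_sum]
  refine Finset.sum_congr rfl fun g _ => ?_
  by_cases hg : r ∣ orderOf g
  · simp [hg]
  · rw [if_pos hg, if_neg hg]
    push_cast
    simp

/-- the sum of a shifted character over the regular elements -/
theorem sum_shift {ψ : C → ℂ} (hψ : IsCharacter C ψ) {y : C} (hy : y ∈ Subgroup.center C) {r n : ℕ} (hr : r.Prime)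
    (h1 : r ^ n ∣ Nat.card C) (h2 : ¬ r ^ (n + 1) ∣ Nat.card C) :
    ∃ α : ℂ, IsIntegral ℤ α ∧ (r ^ n : ℂ) * ∑ g ∈ reg C r, ψ (y * g) = Nat.card C * α := by
  classical
  have hfin : Finite (IrrCharacter C) := Core.finite_irr
  have := Fintype.ofFinite (IrrCharacter C)
  obtain ⟨m, rfl⟩ := Core.isCharacter_iff.1 hψ
  choose ω hω hω' using fun μ : IrrCharacter C => CharactersDeep.PElem.exists_central_scalar μ.2 hy
  choose k hk using fun μ : IrrCharacter C => sum_reg_irr μ hr h1 h2
  refine ⟨∑ μ : IrrCharacter C, (m μ : ℂ) * (ω μ * k μ), ?_, ?_⟩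
  · refine IsIntegral.sum _ fun μ _ => ?_
    refine IsIntegral.mul ?_ ((hω μ).mul ?_)
    · simpa using isIntegral_algebraMap (R := ℤ) (A := ℂ) (x := (m μ : ℤ))
    · simpa using isIntegral_algebraMap (R := ℤ) (A := ℂ) (x := k μ)
  · have h3 : ∀ g, (∑ μ : IrrCharacter C, m μ • (μ : C → ℂ)) (y * g)
        = ∑ μ : IrrCharacter C, (m μ : ℂ) * (ω μ * (μ : C → ℂ) g) := by
      intro g
      rw [Finset.sum_apply]
      refine Finset.sum_congr rfl fun μ _ => ?_
      rw [Pi.smul_apply, nsmul_eq_mul, hω' μ g]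
    rw [Finset.sum_congr rfl fun g _ => h3 g, Finset.sum_comm, Finset.mul_sum, Finset.mul_sum]
    refine Finset.sum_congr rfl fun μ _ => ?_
    rw [← Finset.mul_sum, ← Finset.mul_sum]
    linear_combination ((m μ : ℂ) * ω μ) * hk μ

end shift

section sec

variable {G : Type u} [Group G] [Fintype G] [DecidableEq G]

/-- the `r`-section of `y` -/
noncomputable def sec (y : G) (r : ℕ) : Finset G := by
  classical
  exact Finset.univ.filter fun g => ∃ w u : G, IsConj y w ∧ Commute w u ∧ ¬ r ∣ orderOf u ∧ g = w * u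

theorem mem_sec {y g : G} {r : ℕ} : g ∈ sec y r ↔ ∃ w u : G, IsConj y w ∧ Commute w u ∧ ¬ r ∣ orderOf u ∧ g = w * u := by
  classical
  simp only [sec, _root_.isConj_iff, _root_.exists_and_left, _root_.exists_exists_eq_and, _root_.Finset.mem_filter, _root_.Finset.mem_univ, _root_.true_and]

theorem self_mem_sec {y w : G} {r : ℕ} (hr : r.Prime) (h : IsConj y w) : w ∈ sec y r :=
  mem_sec.2 ⟨w, 1, h, Commute.one_right w, by rw [orderOf_one]; exact fun h => hr.one_lt.ne' (Nat.dvd_one.1 h),
    (mul_one w).symm⟩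

/-- the exponent of the `r`-part -/
theorem exists_exp (G : Type u) [Group G] [Finite G] {r : ℕ} (hr : r.Prime) : ∃ k : ℕ,
    (∀ w : G, (∃ n, orderOf w = r ^ n) → w ^ k = w) ∧ ∀ u : G, ¬ r ∣ orderOf u → u ^ k = 1 := by
  obtain ⟨n, m, hm, hN⟩ := Nat.exists_eq_pow_mul_and_not_dvd (Nat.card_pos (α := G)).ne' r hr.ne_one
  have hcop : Nat.Coprime (r ^ n) m := Nat.Coprime.pow_left n ((Nat.Prime.coprime_iff_not_dvd hr).2 hm)
  obtain ⟨k, hk1, hk2⟩ := Nat.chineseRemainder hcop 1 0
  refine ⟨k, fun w hw => ?_, fun u hu => ?_⟩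
  · obtain ⟨a, ha⟩ := hw
    have h1 : orderOf w ∣ r ^ n := by
      have h2 : orderOf w ∣ r ^ n * m := hN ▸ orderOf_dvd_natCard w
      rw [ha] at h2 ⊢
      exact (Nat.Coprime.dvd_of_dvd_mul_right
        (Nat.Coprime.pow_left a ((Nat.Prime.coprime_iff_not_dvd hr).2 hm)) h2)
    conv_rhs => rw [← pow_one w]
    exact pow_eq_pow_iff_modEq.2 (hk1.of_dvd h1)
  · have h1 : orderOf u ∣ m := by
      have h2 : orderOf u ∣ r ^ n * m := hN ▸ orderOf_dvd_natCard u
      exact Nat.Coprime.dvd_of_dvd_mul_left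
        ((Nat.Coprime.pow_left n ((Nat.Prime.coprime_iff_not_dvd hr).2 hu)).symm) h2
    rw [← pow_zero u]
    exact pow_eq_pow_iff_modEq.2 (hk2.of_dvd h1)

theorem orderOf_conj_pow {y w : G} {r : ℕ} (hy : ∃ n, orderOf y = r ^ n) (h : IsConj y w) : ∃ n, orderOf w = r ^ n := by
  obtain ⟨n, hn⟩ := hy
  exact ⟨n, by rw [← orderOf_eq_of_conj h, hn]⟩

/-- **Sums over a section.** -/
theorem sum_sec {y : G} {r : ℕ} (hr : r.Prime) (hy : ∃ n, orderOf y = r ^ n) {f : G → ℝ}
    (hf : ∀ g h : G, f (h * g * h⁻¹) = f g) [Fintype (Subgroup.centralizer ({y} : Set G))] :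
    (cent y : ℝ) * ∑ g ∈ sec y r, f g
      = Nat.card G * ∑ u ∈ reg (Subgroup.centralizer ({y} : Set G)) r, f (y * u) := by
  classical
  obtain ⟨k, hk1, hk2⟩ := exists_exp G hr
  -- the fibre over `w`
  let S : G → Finset G := fun w => Finset.univ.filter fun u => Commute w u ∧ ¬ r ∣ orderOf u
  have hS : ∀ w u, u ∈ S w ↔ Commute w u ∧ ¬ r ∣ orderOf u := by intro w u; simp only [S, _root_.Finset.mem_filter, _root_.Finset.mem_univ, _root_.true_and]
  let K : Finset G := Finset.univ.filter fun w => IsConj y w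
  have hK : ∀ w, w ∈ K ↔ IsConj y w := by intro w; simp only [K, _root_.isConj_iff, _root_.Finset.univ_filter_exists, _root_.Finset.mem_image, _root_.Finset.mem_univ, _root_.true_and]
  have hpart : ∀ w ∈ K, ∀ u ∈ S w, (w * u) ^ k = w := by
    intro w hw u hu
    rw [hS] at hu
    rw [hu.1.mul_pow, hk1 w (orderOf_conj_pow hy ((hK w).1 hw)), hk2 u hu.2, mul_one]
  have h1 : sec y r = K.biUnion fun w => (S w).image fun u => w * u := by
    ext g
    rw [mem_sec, Finset.mem_biUnion]
    constructor
    · rintro ⟨w, u, hw, hc, hu, rfl⟩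
      exact ⟨w, (hK w).2 hw, Finset.mem_image.2 ⟨u, (hS w u).2 ⟨hc, hu⟩, rfl⟩⟩
    · rintro ⟨w, hw, hg⟩
      obtain ⟨u, hu, rfl⟩ := Finset.mem_image.1 hg
      exact ⟨w, u, (hK w).1 hw, ((hS w u).1 hu).1, ((hS w u).1 hu).2, rfl⟩
  have h2 : ∑ g ∈ sec y r, f g = ∑ w ∈ K, ∑ u ∈ S w, f (w * u) := by
    rw [h1, Finset.sum_biUnion]
    · refine Finset.sum_congr rfl fun w _ => ?_
      rw [Finset.sum_image]
      intro a _ b _ hab
      exact mul_left_cancel hab
    · intro w hw w' hw' hne
      rw [Function.onFun, Finset.disjoint_left]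
      intro g hg hg'
      obtain ⟨u, hu, rfl⟩ := Finset.mem_image.1 hg
      obtain ⟨u', hu', he⟩ := Finset.mem_image.1 hg'
      apply hne
      rw [← hpart w hw u hu, ← hpart w' hw' u' hu']
      exact congrArg (fun t => t ^ k) he.symm
  have h3 : ∀ w ∈ K, ∑ u ∈ S w, f (w * u) = ∑ u ∈ S y, f (y * u) := by
    intro w hw
    obtain ⟨h, rfl⟩ := isConj_iff.1 ((hK w).1 hw)
    refine Finset.sum_nbij' (fun u => h⁻¹ * u * h) (fun u => h * u * h⁻¹) ?_ ?_ ?_ ?_ ?_
    · intro u hu
      rw [hS] at hu ⊢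
      constructor
      · have h4 := hu.1.eq
        show y * (h⁻¹ * u * h) = h⁻¹ * u * h * y
        calc y * (h⁻¹ * u * h) = h⁻¹ * ((h * y * h⁻¹) * u) * h := by group
          _ = h⁻¹ * (u * (h * y * h⁻¹)) * h := by rw [h4]
          _ = h⁻¹ * u * h * y := by group
      · have h4 : orderOf (h⁻¹ * u * h) = orderOf u := by
          have := orderOf_eq_of_conj (isConj_iff.2 ⟨h⁻¹, rfl⟩ : IsConj u (h⁻¹ * u * (h⁻¹)⁻¹))
          rw [inv_inv] at this
          exact this.symm
        rw [h4]
        exact hu.2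
    · intro u hu
      rw [hS] at hu ⊢
      constructor
      · have h4 := hu.1.eq
        show h * y * h⁻¹ * (h * u * h⁻¹) = h * u * h⁻¹ * (h * y * h⁻¹)
        calc h * y * h⁻¹ * (h * u * h⁻¹) = h * (y * u) * h⁻¹ := by group
          _ = h * (u * y) * h⁻¹ := by rw [h4]
          _ = _ := by group
      · rw [← orderOf_eq_of_conj (isConj_iff.2 ⟨h, rfl⟩ : IsConj u (h * u * h⁻¹))]
        exact hu.2
    · intro u _
      show h * (h⁻¹ * u * h) * h⁻¹ = u
      group
    · intro u _
      show h⁻¹ * (h * u * h⁻¹) * h = u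
      group
    · intro u _
      rw [← hf (y * (h⁻¹ * u * h)) h]
      congr 1
      group
  have h4 : ∑ u ∈ S y, f (y * u) = ∑ u ∈ reg (Subgroup.centralizer ({y} : Set G)) r, f (y * u) := by
    symm
    refine Finset.sum_bij (fun u _ => (u : G)) ?_ ?_ ?_ ?_
    · intro u hu
      rw [mem_reg] at hu
      rw [hS]
      exact ⟨(Subgroup.mem_centralizer_singleton_iff.1 u.2).symm, by rwa [Subgroup.orderOf_coe]⟩
    · intro a _ b _ h
      exact Subtype.ext h
    · intro u hu
      rw [hS] at hu
      refine ⟨⟨u, Subgroup.mem_centralizer_singleton_iff.2 hu.1.eq.symm⟩, ?_, rfl⟩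
      rw [mem_reg, Subgroup.orderOf_mk]
      exact hu.2
    · intro u _
      rfl
  have h5 := H849.OZ.card_class y
  have h6 : (K.card : ℝ) * cent y = Nat.card G := by
    rw [← h5]
    push_cast
    rfl
  rw [h2, Finset.sum_congr rfl h3, Finset.sum_const, nsmul_eq_mul, h4, ← h6]
  ring

/-- the section of a rational element is Galois-stable -/
theorem gal_sec {y : G} (hy : ∀ m : ℕ, m.Coprime (Nat.card G) → IsConj (y ^ m) y) (r : ℕ) :
    H695.OneZero.Gal (sec y r) := by
  intro g hg k hk
  rw [mem_sec] at hg ⊢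
  obtain ⟨w, u, hw, hc, hu, rfl⟩ := hg
  refine ⟨w ^ k, u ^ k, (hy k hk).symm.trans (H849.OZ.isConj_pow hw k), hc.pow_pow k k, ?_, hc.mul_pow k⟩
  rwa [orderOf_pow_of_coprime hk]

/-- **Integrality over a section.** -/
theorem sum_sec_int (χ : IrrCharacter G) {y : G} {r m : ℕ} (hr : r.Prime) (hy : ∃ n, orderOf y = r ^ n)
    (hrat : ∀ m : ℕ, m.Coprime (Nat.card G) → IsConj (y ^ m) y) (h1 : r ^ m ∣ cent y) (h2 : ¬ r ^ (m + 1) ∣ cent y) :
    ∃ k : ℤ, (r ^ m : ℝ) * ∑ g ∈ sec y r, Complex.normSq ((χ : G → ℂ) g) = Nat.card G * k := by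
  classical
  have := Fintype.ofFinite (Subgroup.centralizer ({y} : Set G))
  set Y := sec y r with hY
  have hgal : H695.OneZero.Gal Y := gal_sec hrat r
  set S : ℝ := ∑ g ∈ Y, Complex.normSq ((χ : G → ℂ) g) with hS
  have hχ := Core.isIrr_isCharacter χ.2
  -- the character of the centralizer
  have hψ : IsCharacter (Subgroup.centralizer ({y} : Set G))
      (fun u => (χ : G → ℂ) u * (starRingEnd ℂ) ((χ : G → ℂ) u)) := by
    have h3 := Core.isCharacter_mul hχ (Core.isCharacter_conj hχ)
    exact Core.isCharacter_comp (Subgroup.centralizer ({y} : Set G)).subtype h3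
  have hyc : (⟨y, by rw [Subgroup.mem_centralizer_singleton_iff]⟩ : Subgroup.centralizer ({y} : Set G)) ∈
      Subgroup.center (Subgroup.centralizer ({y} : Set G)) := by
    rw [Subgroup.mem_center_iff]
    intro u
    exact Subtype.ext (Subgroup.mem_centralizer_singleton_iff.1 u.2)
  obtain ⟨α, hα, hsum⟩ := sum_shift hψ hyc hr h1 h2
  have hcast : (∑ g ∈ reg (Subgroup.centralizer ({y} : Set G)) r, (χ : G → ℂ) (y * g) *
      (starRingEnd ℂ) ((χ : G → ℂ) (y * g)) : ℂ) =
      ((∑ g ∈ reg (Subgroup.centralizer ({y} : Set G)) r, Complex.normSq ((χ : G → ℂ) (y * g)) : ℝ) : ℂ) := by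
    push_cast
    exact Finset.sum_congr rfl fun g _ => Complex.mul_conj _
  have hsum' : (r ^ m : ℂ) * ((∑ g ∈ reg (Subgroup.centralizer ({y} : Set G)) r,
      Complex.normSq ((χ : G → ℂ) (y * g)) : ℝ) : ℂ) = (cent y : ℂ) * α := by
    rw [← hcast]
    exact hsum
  have hB := sum_sec hr hy (f := fun g => Complex.normSq ((χ : G → ℂ) g)) (fun g h => by
    show Complex.normSq ((χ : G → ℂ) (h * g * h⁻¹)) = Complex.normSq ((χ : G → ℂ) g)
    rw [Core.isIrr_isClassFunction χ.2 g h])
  have hG : (Nat.card G : ℂ) ≠ 0 := by exact_mod_cast Nat.card_pos.ne'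
  have hC : (cent y : ℂ) ≠ 0 := by
    have : 0 < cent y := Nat.card_pos
    exact_mod_cast this.ne'
  -- `r ^ m * S = |G| * α`
  have hSα : (r ^ m : ℂ) * (S : ℂ) = Nat.card G * α := by
    have hB' : (cent y : ℂ) * (S : ℂ) = Nat.card G * ((∑ g ∈ reg (Subgroup.centralizer ({y} : Set G)) r,
        Complex.normSq ((χ : G → ℂ) (y * g)) : ℝ) : ℂ) := by
      exact_mod_cast hB
    apply mul_left_cancel₀ hC
    linear_combination (r ^ m : ℂ) * hB' + (Nat.card G : ℂ) * hsum'
  have hαeq : α = (r ^ m : ℂ) * (S : ℂ) / Nat.card G := by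
    rw [hSα]
    field_simp
  -- `S` is fixed
  have hfix : ∀ σ : ℂ ≃+* ℂ, σ (S : ℂ) = S := by
    intro σ
    obtain ⟨k, hk, hσ⟩ := GaloisBasic.exists_pow_of_ringEquiv (G := G) σ
    have h3 : (S : ℂ) = ∑ g ∈ Y, (χ : G → ℂ) g * (starRingEnd ℂ) ((χ : G → ℂ) g) := by
      rw [hS]
      push_cast
      exact Finset.sum_congr rfl fun g _ => (Complex.mul_conj _).symm
    have h4 : σ (S : ℂ) = ∑ g ∈ Y, (χ : G → ℂ) (g ^ k) * (starRingEnd ℂ) ((χ : G → ℂ) (g ^ k)) := by
      rw [h3, map_sum]
      refine Finset.sum_congr rfl fun g _ => ?_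
      rw [map_mul, hσ _ hχ g]
      congr 1
      exact hσ _ (Core.isCharacter_conj hχ) g
    have h5 : (∑ g ∈ Y, (χ : G → ℂ) (g ^ k) * (starRingEnd ℂ) ((χ : G → ℂ) (g ^ k)) : ℂ) =
        ((∑ g ∈ Y, Complex.normSq ((χ : G → ℂ) (g ^ k)) : ℝ) : ℂ) := by
      push_cast
      exact Finset.sum_congr rfl fun g _ => Complex.mul_conj _
    rw [h4, h5, hgal.sum_pow hk fun g => Complex.normSq ((χ : G → ℂ) g)]
  obtain ⟨k, hk⟩ := GaloisBasic.exists_int_of_isIntegral hα
    (GaloisBasic.exists_rat_of_forall_ringEquiv hα.tower_top (fun σ => by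
      rw [hαeq, map_div₀, map_mul, hfix σ, map_pow, map_natCast, map_natCast]))
  refine ⟨k, ?_⟩
  rw [hk] at hSα
  exact_mod_cast hSα

/-- **T6.** -/
theorem sec_lower {χ : IrrCharacter G} {y : G} {r m : ℕ} (hr : r.Prime) (hy : ∃ n, orderOf y = r ^ n)
    (hrat : ∀ m : ℕ, m.Coprime (Nat.card G) → IsConj (y ^ m) y) (h1 : r ^ m ∣ cent y) (h2 : ¬ r ^ (m + 1) ∣ cent y)
    (hd : r ∣ charDegree (χ : G → ℂ)) (h0 : ∀ g ∈ sec y r, (χ : G → ℂ) g ≠ 0) :
    ((sec y r).card : ℝ) + Nat.card G / r ^ m ≤ ∑ g ∈ sec y r, Complex.normSq ((χ : G → ℂ) g) := by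
  classical
  obtain ⟨k, hk⟩ := sum_sec_int χ hr hy hrat h1 h2
  obtain ⟨k', hk'⟩ := sum_sec_int (⟨1, Core.isIrr_one⟩ : IrrCharacter G) hr hy hrat h1 h2
  have h3 : ∑ g ∈ sec y r, Complex.normSq (((⟨1, Core.isIrr_one⟩ : IrrCharacter G) : G → ℂ) g)
      = (sec y r).card := by
    rw [Finset.card_eq_sum_ones, Nat.cast_sum]
    exact Finset.sum_congr rfl fun g _ => by simp
  rw [h3] at hk'
  set S : ℝ := ∑ g ∈ sec y r, Complex.normSq ((χ : G → ℂ) g) with hS
  -- the class of `y`
  let K : Finset G := (sec y r).filter fun g => IsConj y g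
  have hKgal : H695.OneZero.Gal K := by
    intro g hg k hk
    rw [Finset.mem_filter] at hg ⊢
    exact ⟨gal_sec hrat r g hg.1 k hk, (hrat k hk).symm.trans (H849.OZ.isConj_pow hg.2 k)⟩
  have hK'gal : H695.OneZero.Gal (sec y r \ K) := by
    have : sec y r \ K = sec y r ∩ Kᶜ := by
      ext g
      simp
    rw [this]
    exact (gal_sec hrat r).inter hKgal.compl
  have hlow := H695.OneZero.card_le χ hK'gal fun g hg => h0 g (Finset.mem_sdiff.1 hg).1
  have hsub : K ⊆ sec y r := Finset.filter_subset _ _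
  have hsplit := Finset.sum_sdiff hsub (f := fun g => Complex.normSq ((χ : G → ℂ) g))
  have hcs := Finset.card_sdiff_add_card_eq_card hsub
  have hyK : y ∈ K := by
    rw [Finset.mem_filter]
    exact ⟨self_mem_sec hr (IsConj.refl y), IsConj.refl y⟩
  obtain ⟨a, ha⟩ := H849.OZ.rat (χ := χ) hrat
  have hra := H849.OZ.rat_dvd_prime hr hd hy ha
  have ha0 : a ≠ 0 := by
    rintro rfl
    exact h0 y (Finset.mem_of_mem_filter _ hyK) (by rw [ha]; simp)
  have ha2 : (4 : ℤ) ≤ a ^ 2 := by
    have h4 : (r : ℤ) ≤ |a| := Int.le_of_dvd (abs_pos.2 ha0) ((dvd_abs _ _).2 hra)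
    have h5 : (2 : ℤ) ≤ r := by exact_mod_cast hr.two_le
    rw [← sq_abs]
    nlinarith only [h4, h5]
  have hval : ∀ g ∈ K, Complex.normSq ((χ : G → ℂ) g) = (a : ℝ) ^ 2 := by
    intro g hg
    rw [← Core.classFunction_apply_eq (Core.isIrr_isClassFunction χ.2) (Finset.mem_filter.1 hg).2, ha,
      Complex.normSq_intCast, pow_two]
  have hKsum : ∑ g ∈ K, Complex.normSq ((χ : G → ℂ) g) = K.card * (a : ℝ) ^ 2 := by
    rw [Finset.sum_congr rfl hval, Finset.sum_const, nsmul_eq_mul]
  have hKpos : (1 : ℝ) ≤ K.card := by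
    have : 0 < K.card := Finset.card_pos.2 ⟨y, hyK⟩
    exact_mod_cast this
  have ha2' : (4 : ℝ) ≤ (a : ℝ) ^ 2 := by exact_mod_cast ha2
  have hcs' : ((sec y r \ K).card : ℝ) + K.card = (sec y r).card := by exact_mod_cast hcs
  have hgt : ((sec y r).card : ℝ) < S := by
    rw [hS, ← hsplit, hKsum]
    nlinarith only [hlow, hKpos, ha2', hcs']
  have hNpos : (0 : ℝ) < Nat.card G := by exact_mod_cast Nat.card_pos
  have hrpos : (0 : ℝ) < (r : ℝ) ^ m := by
    have := hr.pos
    positivity
  have h6 : (r : ℝ) ^ m * (S - (sec y r).card) = Nat.card G * ((k - k' : ℤ) : ℝ) := by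
    push_cast
    rw [mul_sub, hk, hk']
    ring
  have h7 : (0 : ℝ) < ((k - k' : ℤ) : ℝ) := by
    have h8 : 0 < (Nat.card G : ℝ) * ((k - k' : ℤ) : ℝ) := by
      rw [← h6]
      exact mul_pos hrpos (by linarith only [hgt])
    exact (pos_iff_pos_of_mul_pos h8).1 hNpos
  have h8 : (1 : ℝ) ≤ ((k - k' : ℤ) : ℝ) := by
    have : 0 < k - k' := by exact_mod_cast h7
    exact_mod_cast this
  have h9 : (Nat.card G : ℝ) ≤ (r : ℝ) ^ m * (S - (sec y r).card) := by
    rw [h6]
    nlinarith only [h8]
  have h10 : (Nat.card G : ℝ) / r ^ m ≤ S - (sec y r).card := by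
    rw [div_le_iff₀ hrpos]
    linarith only [h9]
  linarith only [h10]

/-- **The excess inequality** for sums over Galois-stable sets. -/
theorem excess_sums {χ : IrrCharacter G} {x : G} (h : _root_.Cfsg.Agent.H732.VZ.One χ x) {ι : Type*} (s : Finset ι) (Y : ι → Finset G)
    (e : ι → ℝ) (hY : ∀ i ∈ s, H695.OneZero.Gal (Y i)) (hdis : ∀ i ∈ s, ∀ j ∈ s, i ≠ j → Disjoint (Y i) (Y j))
    (hx : ∀ i ∈ s, ∀ g ∈ Y i, ¬ IsConj x g)
    (hb : ∀ i ∈ s, ((Y i).card : ℝ) + e i ≤ ∑ g ∈ Y i, Complex.normSq ((χ : G → ℂ) g)) :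
    (cent x : ℝ) * ∑ i ∈ s, e i ≤ Nat.card G := by
  classical
  set U : Finset G := s.biUnion Y with hU
  have hUgal : H695.OneZero.Gal U := by
    intro g hg k hk
    rw [hU, Finset.mem_biUnion] at hg ⊢
    obtain ⟨i, hi, hgi⟩ := hg
    exact ⟨i, hi, hY i hi g hgi k hk⟩
  have hU0 : ∀ g ∈ U, (χ : G → ℂ) g ≠ 0 := by
    intro g hg h0
    rw [hU, Finset.mem_biUnion] at hg
    obtain ⟨i, hi, hgi⟩ := hg
    exact hx i hi g hgi (h.uniq g h0)
  have h1 := H695.OneZero.sum_le χ hUgal hU0
  have h2 : ∑ g ∈ U, Complex.normSq ((χ : G → ℂ) g) = ∑ i ∈ s, ∑ g ∈ Y i, Complex.normSq ((χ : G → ℂ) g) := by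
    rw [hU, Finset.sum_biUnion]
    exact fun i hi j hj hij => hdis i hi j hj hij
  have h3 : (U.card : ℝ) = ∑ i ∈ s, ((Y i).card : ℝ) := by
    rw [hU, Finset.card_biUnion fun i hi j hj hij => hdis i hi j hj hij]
    push_cast
    rfl
  have h4 : ∑ i ∈ s, (((Y i).card : ℝ) + e i) ≤ ∑ i ∈ s, ∑ g ∈ Y i, Complex.normSq ((χ : G → ℂ) g) :=
    Finset.sum_le_sum hb
  rw [Finset.sum_add_distrib] at h4
  have h5 := card_zeros h
  have h6 : (((Finset.univ.filter fun g : G => (χ : G → ℂ) g = 0).card : ℕ) : ℝ) * cent x = Nat.card G := by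
    exact_mod_cast h5
  have h7 : ∑ i ∈ s, e i ≤ ((Finset.univ.filter fun g : G => (χ : G → ℂ) g = 0).card : ℝ) := by linarith only [h1, h2, h3, h4]
  calc (cent x : ℝ) * ∑ i ∈ s, e i
      ≤ cent x * ((Finset.univ.filter fun g : G => (χ : G → ℂ) g = 0).card : ℝ) :=
        mul_le_mul_of_nonneg_left h7 (by (clear * -; positivity))
    _ = Nat.card G := by rw [mul_comm, h6]

end sec

/-- **Sections.** `y i` rational `r i`-elements with disjoint sections not containing `x`, `r i ∣ χ(1)`:
`c ∑ 1 / |C(y i)|_(r i) ≤ 1`. -/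
theorem secs {G : Type u} [Group G] [Finite G] {χ : IrrCharacter G} {x : G} (h : _root_.Cfsg.Agent.H732.VZ.One χ x) {ι : Type*} (s : Finset ι)
    (y : ι → G) (r m : ι → ℕ) (hr : ∀ i ∈ s, (r i).Prime) (hy : ∀ i ∈ s, ∃ n, orderOf (y i) = r i ^ n)
    (hrat : ∀ i ∈ s, ∀ m : ℕ, m.Coprime (Nat.card G) → IsConj (y i ^ m) (y i))
    (h1 : ∀ i ∈ s, r i ^ m i ∣ cent (y i)) (h2 : ∀ i ∈ s, ¬ r i ^ (m i + 1) ∣ cent (y i))
    (hd : ∀ i ∈ s, r i ∣ charDegree (χ : G → ℂ))
    (hx : ∀ i ∈ s, ∀ w u : G, IsConj (y i) w → Commute w u → ¬ r i ∣ orderOf u → ¬ IsConj x (w * u))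
    (hdis : ∀ i ∈ s, ∀ j ∈ s, i ≠ j → ∀ w u w' u' : G, IsConj (y i) w → Commute w u → ¬ r i ∣ orderOf u →
      IsConj (y j) w' → Commute w' u' → ¬ r j ∣ orderOf u' → w * u ≠ w' * u') :
    (cent x : ℝ) * ∑ i ∈ s, ((r i : ℝ) ^ m i)⁻¹ ≤ 1 := by
  classical
  have := Fintype.ofFinite G
  have hG : (0 : ℝ) < Nat.card G := by exact_mod_cast Nat.card_pos
  have hx' : ∀ i ∈ s, ∀ g ∈ sec (y i) (r i), ¬ IsConj x g := by
    intro i hi g hg
    obtain ⟨w, u, hw, hc, hu, rfl⟩ := mem_sec.1 hg
    exact hx i hi w u hw hc hu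
  have h3 := excess_sums h s (fun i => sec (y i) (r i)) (fun i => (Nat.card G : ℝ) / (r i : ℝ) ^ m i)
    (fun i hi => gal_sec (hrat i hi) _) (fun i hi j hj hij => by
      rw [Finset.disjoint_left]
      intro g hg hg'
      obtain ⟨w, u, hw, hc, hu, rfl⟩ := mem_sec.1 hg
      obtain ⟨w', u', hw', hc', hu', he⟩ := mem_sec.1 hg'
      exact hdis i hi j hj hij w u w' u' hw hc hu hw' hc' hu' he) hx'
    (fun i hi => sec_lower (hr i hi) (hy i hi) (hrat i hi) (h1 i hi) (h2 i hi) (hd i hi) (fun g hg h0 =>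
      hx' i hi g hg (h.uniq g h0)))
  have h4 : ∑ i ∈ s, (Nat.card G : ℝ) / (r i : ℝ) ^ m i = Nat.card G * ∑ i ∈ s, ((r i : ℝ) ^ m i)⁻¹ := by
    rw [Finset.mul_sum]
    exact Finset.sum_congr rfl fun i _ => div_eq_mul_inv _ _
  rw [h4] at h3
  have h5 : (Nat.card G : ℝ) * ((cent x : ℝ) * ∑ i ∈ s, ((r i : ℝ) ^ m i)⁻¹) ≤ Nat.card G * 1 := by
    rw [mul_one]
    linarith
  exact le_of_mul_le_mul_left h5 hG

/-- **One section.** -/
theorem one_sec {G : Type u} [Group G] [Finite G] {χ : IrrCharacter G} {x : G} (h : _root_.Cfsg.Agent.H732.VZ.One χ x) {y : G} {r m : ℕ}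
    (hr : r.Prime) (hy : ∃ n, orderOf y = r ^ n) (hrat : ∀ m : ℕ, m.Coprime (Nat.card G) → IsConj (y ^ m) y)
    (h1 : r ^ m ∣ cent y) (h2 : ¬ r ^ (m + 1) ∣ cent y) (hd : r ∣ charDegree (χ : G → ℂ))
    (hx : ∀ w u : G, IsConj y w → Commute w u → ¬ r ∣ orderOf u → ¬ IsConj x (w * u)) : cent x ≤ r ^ m := by
  have h3 := secs h {()} (fun _ => y) (fun _ => r) (fun _ => m) (fun _ _ => hr) (fun _ _ => hy) (fun _ _ => hrat)
    (fun _ _ => h1) (fun _ _ => h2) (fun _ _ => hd) (fun _ _ => hx) (fun i _ j _ hij => absurd rfl hij)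
  rw [Finset.sum_singleton] at h3
  have hrpos : (0 : ℝ) < (r : ℝ) ^ m := by
    have := hr.pos
    positivity
  rw [← div_eq_mul_inv, div_le_one hrpos] at h3
  exact_mod_cast h3

end Cfsg.Agent.H604.OZ

private theorem dce_116647502087 : _root_.True := by
  try have : _root_.True := by simp only [_root_.Cfsg.Agent.H604.OZ.sec.eq_1]
  exact _root_.True.intro
end
end
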